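import Groth.Prelude.Def_AnPts
import Groth.Agent.Sga4h.MainInd1
import Groth.Agent.Sga4h.GcGen

/-!
# Abstract calculus for the comparison of `Rf_*`

`CompCalc m`: closure properties of a predicate `P s f K` (`s : Y ⟶ Spec ℂ`, `f : X ⟶ Y`, `K ∈ D(X_et)`; "the
comparison map of `Rf_* K` is an isomorphism"). `CG C b f K` (`b : Y ⟶ S`, `f : X ⟶ Y`): over a nonempty open of `S`,
`P` holds for all `ℂ`-structures on opens of `S`. We show that `CG` has the closure properties of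
`Sga4h.IndCalc.Calc`.
-/

set_option autoImplicit false
set_option linter.dupNamespace false

open CategoryTheory CategoryTheory.Limits Opposite AlgebraicGeometry Pretriangulated
open DerivedCategory (homologyFunctor singleFunctor)

attribute [local instance] HasDerivedCategory.standard

namespace Groth.Agent.An.H495.CompCalc

open Groth.Agent.Etrest.DEtPush Groth.Agent.Sga4h.AdmCx Groth.Agent.Sga4h.IndCalc
  Groth.Agent.Sga4h.GcGen Groth.Agent.Sga4h.MainInd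

/-- The closure properties of the comparison of `Rf_*`. -/
structure CompCalc (m : ℕ) where
  /-- the comparison map of `Rf_* K` is an isomorphism -/
  P : ∀ {X Y : Scheme.{0}}, (Y ⟶ An.SC) → (X ⟶ Y) → DCoh.DEt X → Prop
  of_iso : ∀ {X Y : Scheme.{0}} {s : Y ⟶ An.SC} {f : X ⟶ Y} {K L : DCoh.DEt X},
    (K ≅ L) → P s f K → P s f L
  zero : ∀ {X Y : Scheme.{0}} (s : Y ⟶ An.SC) (f : X ⟶ Y) (K : DCoh.DEt X), IsZero K → P s f K
  retract : ∀ {X Y : Scheme.{0}} {s : Y ⟶ An.SC} {f : X ⟶ Y} [FT s] [FT f] {K L : DCoh.DEt X}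
    (i : K ⟶ L) (r : L ⟶ K), i ≫ r = 𝟙 K → P s f L → P s f K
  one : ∀ {X Y : Scheme.{0}} {s : Y ⟶ An.SC} {f : X ⟶ Y} [FT s] [FT f]
    {T : Triangle (DCoh.DEt X)}, T ∈ (distTriang (DCoh.DEt X)) → P s f T.obj₂ → P s f T.obj₃ → P s f T.obj₁
  three : ∀ {X Y : Scheme.{0}} {s : Y ⟶ An.SC} {f : X ⟶ Y} [FT s] [FT f]
    {T : Triangle (DCoh.DEt X)}, T ∈ (distTriang (DCoh.DEt X)) → P s f T.obj₁ → P s f T.obj₂ → P s f T.obj₃
  comp : ∀ {X Y Z : Scheme.{0}} {s : Z ⟶ An.SC} {g : Y ⟶ Z} {f : X ⟶ Y} [FT s] [FT g] [FT f]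
    {K : DCoh.DEt X}, P (g ≫ s) f K → P s g ((pushD f).obj K) → P s (f ≫ g) K
  of_comp : ∀ {X Y Z : Scheme.{0}} {s : Z ⟶ An.SC} {g : Y ⟶ Z} {f : X ⟶ Y} [FT s] [FT g] [FT f]
    {K : DCoh.DEt X}, P (g ≫ s) f K → P s (f ≫ g) K → P s g ((pushD f).obj K)
  /-- proper morphisms, admissible complexes -/
  proper : ∀ {Y Z : Scheme.{0}} (s : Z ⟶ An.SC) (g : Y ⟶ Z) [FT s] [IsProper g] (K : DCoh.DEt Y),
    Adm m K → P s g K
  /-- restriction of the target to an open -/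
  pull_target : ∀ {X Y X' Y' : Scheme.{0}} {s : Y ⟶ An.SC} {f : X ⟶ Y} [FT s] [FT f]
    (j : Y' ⟶ Y) [IsOpenImmersion j] (f' : X' ⟶ Y') (j' : X' ⟶ X), IsPullback j' f' f j →
    ∀ {K : DCoh.DEt X}, P s f K → P (j ≫ s) f' ((pullD j').obj K)
  /-- `P` is local on the target -/
  target : ∀ {X Y : Scheme.{0}} (s : Y ⟶ An.SC) (f : X ⟶ Y) [LocallyOfFiniteType s] [FT f] {ι : Type}
    (Y' X' : ι → Scheme.{0}) (j : ∀ i, Y' i ⟶ Y) [∀ i, IsOpenImmersion (j i)] (f' : ∀ i, X' i ⟶ Y' i)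
    (j' : ∀ i, X' i ⟶ X), (∀ i, IsPullback (j' i) (f' i) f (j i)) → (∀ y : Y, ∃ i, y ∈ Set.range (j i)) →
    ∀ (K : DCoh.DEt X), (∀ i, P (j i ≫ s) (f' i) ((pullD (j' i)).obj K)) → P s f K
  /-- the T-step -/
  tstep : ∀ {V W Q T V' S : Scheme.{0}} (s : S ⟶ An.SC) [FT s] (p : Q ⟶ S) [IsProper p] (w : W ⟶ Q)
    [IsOpenImmersion w] (t : T ⟶ Q) [IsClosedImmersion t], Set.range w = (Set.range t)ᶜ → IsFinite (t ≫ p) →
    ∀ (j : V ⟶ Q) [FT j] (j' : V' ⟶ W) (w' : V' ⟶ V), IsPullback w' j' j w →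
    ∀ (K : DCoh.DEt V), Adm m K → Adm m ((pushD j).obj K) → P (w ≫ p ≫ s) j' ((pullD w').obj K) →
      P s (j ≫ p) K → P s p ((pushD j).obj K) → P (p ≫ s) j K
  /-- the complement of an étale divisor on a smooth relative curve over a smooth base -/
  curve : ∀ {C Q E B : Scheme.{0}} (s : B ⟶ An.SC) [FT s] [Smooth s] (q : Q ⟶ B)
    [SmoothOfRelativeDimension 1 q] [QuasiCompact q] [QuasiSeparated q] (j : C ⟶ Q) [IsOpenImmersion j]
    (i : E ⟶ Q) [IsClosedImmersion i] [Etale (i ≫ q)], Set.range i = (Set.range j)ᶜ →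
    ∀ ℓ : ℕ, ℓ.Prime → ℓ ∣ m → P (q ≫ s) j ((singleFunctor _ 0).obj (EtCoh.const C (ZMod ℓ)))

/-- `P` holds generically on the base, for all `ℂ`-structures on opens of the base. -/
def CG {m : ℕ} (C : CompCalc m) {X Y S : Scheme.{0}} (b : Y ⟶ S) (f : X ⟶ Y) (K : DCoh.DEt X) : Prop :=
  ∃ U : S.Opens, (U : Set S).Nonempty ∧
    ∀ {X' Y' V : Scheme.{0}} (v : V ⟶ S) [IsOpenImmersion v] (b' : Y' ⟶ V) (jY : Y' ⟶ Y)
      (f' : X' ⟶ Y') (jX : X' ⟶ X), Set.range v ⊆ (U : Set S) → IsPullback jY b' b v →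
      IsPullback jX f' f jY → ∀ (s : V ⟶ An.SC) [FT s], C.P (b' ≫ s) f' ((pullD jX).obj K)

variable {m : ℕ} (C : CompCalc m) {X Y Z S W V T Q X' Y' Z' S' V' : Scheme.{0}}

theorem exists_common₂ [IrreducibleSpace S] {U₁ U₂ : S.Opens} (h₁ : (U₁ : Set S).Nonempty)
    (h₂ : (U₂ : Set S).Nonempty) : ((U₁ ⊓ U₂ : S.Opens) : Set S).Nonempty :=
  ⟨genericPoint S, genericPoint_mem h₁, genericPoint_mem h₂⟩

variable {C}

theorem CG.of_iso {b : Y ⟶ S} {f : X ⟶ Y} {K L : DCoh.DEt X} (e : K ≅ L) (h : CG C b f K) :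
    CG C b f L := by
  obtain ⟨U, hU, h⟩ := h
  exact ⟨U, hU, fun v _ b' jY f' jX hv hb hf s _ => C.of_iso ((pullD jX).mapIso e) (h v b' jY f' jX hv hb hf s)⟩

theorem CG.zero [Nonempty S] (b : Y ⟶ S) (f : X ⟶ Y) (K : DCoh.DEt X) (hK : IsZero K) : CG C b f K :=
  ⟨⊤, Set.univ_nonempty, fun _ _ _ _ _ jX _ _ _ _ _ => C.zero _ _ _ ((pullD jX).map_isZero hK)⟩

theorem CG.retract [Nonempty S] {b : Y ⟶ S} {f : X ⟶ Y} [FT b] [FT f] {K L : DCoh.DEt X}
    (i : K ⟶ L) (r : L ⟶ K) (w : i ≫ r = 𝟙 K) (h : CG C b f L) : CG C b f K := by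
  obtain ⟨U, hU, h⟩ := h
  refine ⟨U, hU, fun v _ b' jY f' jX hv hb hf s _ => ?_⟩
  have : FT b' := ft_of_isPullback hb
  have : FT f' := ft_of_isPullback hf
  have : FT (b' ≫ s) := ft_comp _ _
  exact C.retract ((pullD jX).map i) ((pullD jX).map r)
    (by rw [← Functor.map_comp, w, CategoryTheory.Functor.map_id]) (h v b' jY f' jX hv hb hf s)

theorem CG.one [IrreducibleSpace S] {b : Y ⟶ S} {f : X ⟶ Y} [FT b] [FT f]
    {T : Triangle (DCoh.DEt X)} (hT : T ∈ (distTriang (DCoh.DEt X))) (h₂ : CG C b f T.obj₂)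
    (h₃ : CG C b f T.obj₃) : CG C b f T.obj₁ := by
  obtain ⟨U₂, hU₂, h₂⟩ := h₂
  obtain ⟨U₃, hU₃, h₃⟩ := h₃
  refine ⟨U₂ ⊓ U₃, exists_common₂ hU₂ hU₃, fun v _ b' jY f' jX hv hb hf s _ => ?_⟩
  have : FT b' := ft_of_isPullback hb
  have : FT f' := ft_of_isPullback hf
  have : FT (b' ≫ s) := ft_comp _ _
  exact C.one ((pullD jX).map_distinguished _ hT) (h₂ v b' jY f' jX (hv.trans fun _ h => h.1) hb hf s)
    (h₃ v b' jY f' jX (hv.trans fun _ h => h.2) hb hf s)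

theorem CG.three [IrreducibleSpace S] {b : Y ⟶ S} {f : X ⟶ Y} [FT b] [FT f]
    {T : Triangle (DCoh.DEt X)} (hT : T ∈ (distTriang (DCoh.DEt X))) (h₁ : CG C b f T.obj₁)
    (h₂ : CG C b f T.obj₂) : CG C b f T.obj₃ := by
  obtain ⟨U₁, hU₁, h₁⟩ := h₁
  obtain ⟨U₂, hU₂, h₂⟩ := h₂
  refine ⟨U₁ ⊓ U₂, exists_common₂ hU₁ hU₂, fun v _ b' jY f' jX hv hb hf s _ => ?_⟩
  have : FT b' := ft_of_isPullback hb
  have : FT f' := ft_of_isPullback hf
  have : FT (b' ≫ s) := ft_comp _ _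
  exact C.three ((pullD jX).map_distinguished _ hT) (h₁ v b' jY f' jX (hv.trans fun _ h => h.1) hb hf s)
    (h₂ v b' jY f' jX (hv.trans fun _ h => h.2) hb hf s)

/-- the squares of a composition -/
theorem exists_factor {g : Y ⟶ Z} {f : X ⟶ Y} {jZ : Z' ⟶ Z} {k : X' ⟶ Z'} {jX : X' ⟶ X}
    (h : IsPullback jX k (f ≫ g) jZ) : ∃ (Y' : Scheme.{0}) (jY : Y' ⟶ Y) (f' : X' ⟶ Y') (g' : Y' ⟶ Z'),
      f' ≫ g' = k ∧ IsPullback jX f' f jY ∧ IsPullback jY g' g jZ := by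
  have hg := IsPullback.of_hasPullback g jZ
  refine ⟨pullback g jZ, pullback.fst g jZ,
    pullback.lift (jX ≫ f) k (by rw [Category.assoc, h.w]), pullback.snd g jZ, pullback.lift_snd _ _ _, ?_, hg⟩
  refine IsPullback.of_bot (v₂₁ := pullback.snd g jZ) (v₂₂ := g) (h₃₁ := jZ) ?_ ?_ hg
  · rw [pullback.lift_snd]; exact h
  · rw [pullback.lift_fst]

theorem CG.comp [IrreducibleSpace S] {c : Z ⟶ S} {g : Y ⟶ Z} {f : X ⟶ Y} [FT c] [FT g] [FT f]
    {K : DCoh.DEt X} (h₁ : CG C (g ≫ c) f K) (h₂ : CG C c g ((pushD f).obj K)) : CG C c (f ≫ g) K := by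
  obtain ⟨U₁, hU₁, h₁⟩ := h₁
  obtain ⟨U₂, hU₂, h₂⟩ := h₂
  refine ⟨U₁ ⊓ U₂, exists_common₂ hU₁ hU₂, fun {X' Z' V} v _ c' jZ k jX hv hc hk s _ => ?_⟩
  obtain ⟨Y', jY, f', g', rfl, hf, hg⟩ := exists_factor hk
  have : FT c' := ft_of_isPullback hc
  have : FT g' := ft_of_isPullback hg
  have : FT f' := ft_of_isPullback hf
  have : FT (c' ≫ s) := ft_comp _ _
  have : IsOpenImmersion jZ := isOpenImmersion_of_isPullback hc
  have : IsOpenImmersion jY := isOpenImmersion_of_isPullback hg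
  obtain ⟨e⟩ := nonempty_bc hf K
  refine C.comp ?_ (C.of_iso e (h₂ v c' jZ g' jY (hv.trans fun _ h => h.2) hc hg s))
  rw [← Category.assoc]
  exact h₁ v (g' ≫ c') jY f' jX (hv.trans fun _ h => h.1) (hg.paste_vert hc) hf s

theorem CG.of_comp [IrreducibleSpace S] {c : Z ⟶ S} {g : Y ⟶ Z} {f : X ⟶ Y} [FT c] [FT g] [FT f]
    {K : DCoh.DEt X} (h₁ : CG C (g ≫ c) f K) (h₂ : CG C c (f ≫ g) K) : CG C c g ((pushD f).obj K) := by
  obtain ⟨U₁, hU₁, h₁⟩ := h₁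
  obtain ⟨U₂, hU₂, h₂⟩ := h₂
  refine ⟨U₁ ⊓ U₂, exists_common₂ hU₁ hU₂, fun {Y' Z' V} v _ c' jZ g' jY hv hc hg s _ => ?_⟩
  have hf : IsPullback (pullback.fst f jY) (pullback.snd f jY) f jY := IsPullback.of_hasPullback f jY
  have : FT c' := ft_of_isPullback hc
  have : FT g' := ft_of_isPullback hg
  have : FT (pullback.snd f jY) := ft_of_isPullback hf
  have : FT (c' ≫ s) := ft_comp _ _
  have : IsOpenImmersion jZ := isOpenImmersion_of_isPullback hc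
  have : IsOpenImmersion jY := isOpenImmersion_of_isPullback hg
  obtain ⟨e⟩ := nonempty_bc hf K
  refine C.of_iso e.symm (C.of_comp ?_ (h₂ v c' jZ (pullback.snd f jY ≫ g') (pullback.fst f jY)
    (hv.trans fun _ h => h.2) hc (hf.paste_vert hg) s))
  rw [← Category.assoc]
  exact h₁ v (g' ≫ c') jY (pullback.snd f jY) (pullback.fst f jY) (hv.trans fun _ h => h.1)
    (hg.paste_vert hc) hf s

theorem CG.proper [Nonempty S] (c : Z ⟶ S) (g : Y ⟶ Z) [FT c] [IsProper g] (K : DCoh.DEt Y)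
    (hK : Adm m K) : CG C c g K := by
  refine ⟨⊤, Set.univ_nonempty, fun v _ c' jZ g' jY hv hc hg s _ => ?_⟩
  have : FT c' := ft_of_isPullback hc
  have : IsProper g' := isProper_of_isPullback hg
  have : FT (c' ≫ s) := ft_comp _ _
  exact C.proper _ _ _ (hK.pull jY)

/-- restriction of a morphism to an open of the target, over an open of the base -/
theorem exists_restrict_target {b : Y ⟶ S} {f : X ⟶ Y} {j : Y' ⟶ Y} [IsOpenImmersion j] {f' : X' ⟶ Y'}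
    {j' : X' ⟶ X} (h : IsPullback j' f' f j) {v : V ⟶ S} {b'' : Z' ⟶ V} {jY : Z' ⟶ Y'} {f'' : Z ⟶ Z'}
    {jX : Z ⟶ X'} (hb : IsPullback jY b'' (j ≫ b) v) (hf : IsPullback jX f'' f' jY) :
    ∃ (jj : Z' ⟶ pullback b v) (jj' : Z ⟶ pullback f (pullback.fst b v)),
      IsOpenImmersion jj ∧ jj ≫ pullback.snd b v = b'' ∧ jj ≫ pullback.fst b v = jY ≫ j ∧
      jj' ≫ pullback.fst f (pullback.fst b v) = jX ≫ j' ∧
      IsPullback jj' f'' (pullback.snd f (pullback.fst b v)) jj := by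
  let jj : Z' ⟶ pullback b v := pullback.lift (jY ≫ j) b'' (by rw [Category.assoc, hb.w])
  have h1 : jj ≫ pullback.fst b v = jY ≫ j := pullback.lift_fst _ _ _
  have h2 : jj ≫ pullback.snd b v = b'' := pullback.lift_snd _ _ _
  have hjj : IsPullback jY jj j (pullback.fst b v) := by
    refine IsPullback.of_bot (v₂₁ := pullback.snd b v) (v₂₂ := b) (h₃₁ := v) ?_ h1.symm
      (IsPullback.of_hasPullback b v)
    rw [h2]; exact hb
  have hji : IsOpenImmersion jj := MorphismProperty.of_isPullback (P := @IsOpenImmersion) hjj ‹_›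
  let jj' : Z ⟶ pullback f (pullback.fst b v) := pullback.lift (jX ≫ j') (f'' ≫ jj)
    (by rw [Category.assoc, h.w, Category.assoc, h1, ← Category.assoc, hf.w, Category.assoc])
  have h3 : jj' ≫ pullback.fst f (pullback.fst b v) = jX ≫ j' := pullback.lift_fst _ _ _
  have h4 : jj' ≫ pullback.snd f (pullback.fst b v) = f'' ≫ jj := pullback.lift_snd _ _ _
  refine ⟨jj, jj', hji, h2, h1, h3, ?_⟩
  refine IsPullback.of_right (h₁₂ := pullback.fst f (pullback.fst b v)) (h₂₂ := pullback.fst b v)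
    (v₁₃ := f) ?_ h4 (IsPullback.of_hasPullback _ _)
  rw [h3, h1]
  exact hf.paste_horiz h

theorem CG.pull_target {b : Y ⟶ S} {f : X ⟶ Y} [FT b] [FT f] (j : Y' ⟶ Y) [IsOpenImmersion j]
    (f' : X' ⟶ Y') (j' : X' ⟶ X) (hs : IsPullback j' f' f j) {K : DCoh.DEt X} (h : CG C b f K) :
    CG C (j ≫ b) f' ((pullD j').obj K) := by
  obtain ⟨U, hU, h⟩ := h
  refine ⟨U, hU, fun {Z Z' V} v _ b'' jY f'' jX hv hb hf s _ => ?_⟩
  obtain ⟨jj, jj', i1, h2, h1, h3, h5⟩ := exists_restrict_target hs hb hf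
  have : FT (pullback.snd b v) := ft_of_isPullback (IsPullback.of_hasPullback b v)
  have : FT (pullback.snd f (pullback.fst b v)) := ft_of_isPullback (IsPullback.of_hasPullback f _)
  have : FT (pullback.snd b v ≫ s) := ft_comp _ _
  have h6 := h v (pullback.snd b v) (pullback.fst b v) (pullback.snd f (pullback.fst b v))
    (pullback.fst f (pullback.fst b v)) hv (IsPullback.of_hasPullback b v) (IsPullback.of_hasPullback f _) s
  have h7 := C.pull_target jj f'' jj' h5 h6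
  rw [← Category.assoc, h2] at h7
  obtain ⟨e1⟩ := nonempty_pullD_comp h3 K
  obtain ⟨e2⟩ := nonempty_pullD_comp (rfl : jX ≫ j' = _) K
  exact C.of_iso (e1 ≪≫ e2.symm) h7

theorem CG.target [IrreducibleSpace S] (b : Y ⟶ S) (f : X ⟶ Y) [FT b] [FT f] {ι : Type} [Finite ι]
    (Y' X' : ι → Scheme.{0}) (j : ∀ i, Y' i ⟶ Y) [∀ i, IsOpenImmersion (j i)] (f' : ∀ i, X' i ⟶ Y' i)
    (j' : ∀ i, X' i ⟶ X) (hs : ∀ i, IsPullback (j' i) (f' i) f (j i)) (hj : ∀ y : Y, ∃ i, y ∈ Set.range (j i))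
    (K : DCoh.DEt X) (h : ∀ i, CG C (j i ≫ b) (f' i) ((pullD (j' i)).obj K)) : CG C b f K := by
  choose U hU h using h
  refine ⟨⟨⋂ i, (U i : Set S), isOpen_iInter_of_finite fun i => (U i).2⟩,
    ⟨genericPoint S, Set.mem_iInter.2 fun i => genericPoint_mem (hU i)⟩, ?_⟩
  intro X₁ Y₁ V v _ b₁ jY f₁ jX hv hb hf s _
  have : FT b₁ := ft_of_isPullback hb
  have : FT f₁ := ft_of_isPullback hf
  have : FT (b₁ ≫ s) := ft_comp _ _
  have sq : ∀ i, IsPullback (pullback.fst (j i) jY) (pullback.snd (j i) jY) (j i) jY :=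
    fun i => IsPullback.of_hasPullback _ _
  have io : ∀ i, IsOpenImmersion (pullback.snd (j i) jY) := fun i => inferInstance
  -- the square for `f₁` over `pullback (j i) jY`
  have sq1 : ∀ i, IsPullback (pullback.fst f₁ (pullback.snd (j i) jY)) (pullback.snd f₁ (pullback.snd (j i) jY))
      f₁ (pullback.snd (j i) jY) := fun i => IsPullback.of_hasPullback _ _
  refine C.target (b₁ ≫ s) f₁ (fun i => pullback (j i) jY) (fun i => pullback f₁ (pullback.snd (j i) jY))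
    (fun i => pullback.snd (j i) jY) (fun i => pullback.snd f₁ (pullback.snd (j i) jY))
    (fun i => pullback.fst f₁ (pullback.snd (j i) jY)) sq1 (fun y => ?_) _ fun i => ?_
  · obtain ⟨i, x, hx⟩ := hj (jY y)
    obtain ⟨z, hz1, hz2⟩ := Scheme.Pullback.exists_preimage_pullback x y hx
    exact ⟨i, z, hz2⟩
  · -- the map to `X' i`
    let k : pullback f₁ (pullback.snd (j i) jY) ⟶ X' i := (hs i).lift
      (pullback.fst f₁ (pullback.snd (j i) jY) ≫ jX)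
      (pullback.snd f₁ (pullback.snd (j i) jY) ≫ pullback.fst (j i) jY) (by
        rw [Category.assoc, hf.w, ← Category.assoc, pullback.condition, Category.assoc, Category.assoc,
          pullback.condition])
    have hk1 : k ≫ j' i = pullback.fst f₁ (pullback.snd (j i) jY) ≫ jX := (hs i).lift_fst _ _ _
    have hk2 : k ≫ f' i = pullback.snd f₁ (pullback.snd (j i) jY) ≫ pullback.fst (j i) jY :=
      (hs i).lift_snd _ _ _
    have sq2 : IsPullback k (pullback.snd f₁ (pullback.snd (j i) jY)) (f' i) (pullback.fst (j i) jY) := by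
      refine IsPullback.of_right (h₁₂ := j' i) (h₂₂ := j i) (v₁₃ := f) ?_ hk2 (hs i)
      rw [hk1, pullback.condition]
      exact (sq1 i).paste_horiz hf
    have sq3 : IsPullback (pullback.fst (j i) jY) (pullback.snd (j i) jY ≫ b₁) (j i ≫ b) v :=
      (sq i).paste_vert hb
    have h8 := h i v (pullback.snd (j i) jY ≫ b₁) (pullback.fst (j i) jY)
      (pullback.snd f₁ (pullback.snd (j i) jY)) k (hv.trans (Set.iInter_subset _ i)) sq3 sq2 s
    rw [Category.assoc] at h8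
    obtain ⟨e1⟩ := nonempty_pullD_comp hk1 K
    obtain ⟨e2⟩ := nonempty_pullD_comp (rfl : pullback.fst f₁ (pullback.snd (j i) jY) ≫ jX = _) K
    exact C.of_iso (e1 ≪≫ e2.symm) h8

theorem CG.restrict [IrreducibleSpace S] [Nonempty S'] {b : Y ⟶ S} {f : X ⟶ Y}
    (s : S' ⟶ S) [IsOpenImmersion s] (b' : Y' ⟶ S') (jY : Y' ⟶ Y) (f' : X' ⟶ Y') (jX : X' ⟶ X)
    (hb : IsPullback jY b' b s) (hf : IsPullback jX f' f jY) (K : DCoh.DEt X) (h : CG C b f K) :
    CG C b' f' ((pullD jX).obj K) := by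
  obtain ⟨U, hU, h⟩ := h
  have hs : genericPoint S ∈ s.opensRange := genericPoint_mem ⟨_, ⟨Classical.arbitrary S', rfl⟩⟩
  obtain ⟨η, hη⟩ := hs
  refine ⟨s ⁻¹ᵁ U, ⟨η, ?_⟩, fun {X'' Y'' V} v _ b'' jY' f'' jX' hv hb' hf' t _ => ?_⟩
  · change s η ∈ U
    rw [hη]
    exact genericPoint_mem hU
  · have h1 := h (v ≫ s) b'' (jY' ≫ jY) f'' (jX' ≫ jX) (by
      rintro _ ⟨x, rfl⟩
      exact hv ⟨x, rfl⟩) (hb'.paste_horiz hb) (hf'.paste_horiz hf) t
    obtain ⟨e⟩ := nonempty_pullD_comp (rfl : jX' ≫ jX = _) K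
    exact C.of_iso e.symm h1

theorem CG.of_restrict {b : Y ⟶ S} {f : X ⟶ Y}
    (s : S' ⟶ S) [IsOpenImmersion s] (b' : Y' ⟶ S') (jY : Y' ⟶ Y) (f' : X' ⟶ Y') (jX : X' ⟶ X)
    (hb : IsPullback jY b' b s) (hf : IsPullback jX f' f jY) (K : DCoh.DEt X)
    (h : CG C b' f' ((pullD jX).obj K)) : CG C b f K := by
  obtain ⟨U, hU, h⟩ := h
  refine ⟨s ''ᵁ U, ?_, fun {X'' Y'' V} v _ b'' jY'' f'' jX'' hv hb' hf' t _ => ?_⟩
  · obtain ⟨x, hx⟩ := hU
    exact ⟨s x, x, hx, rfl⟩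
  · have hr : Set.range v ⊆ Set.range s := by
      rintro x hx
      obtain ⟨y, _, rfl⟩ := hv hx
      exact ⟨y, rfl⟩
    let v' : V ⟶ S' := IsOpenImmersion.lift s v hr
    have hv' : v' ≫ s = v := IsOpenImmersion.lift_fac _ _ _
    have hio : IsOpenImmersion v' := by
      have : IsOpenImmersion (v' ≫ s) := by rw [hv']; infer_instance
      exact IsOpenImmersion.of_comp v' s
    let k : Y'' ⟶ Y' := hb.lift jY'' (b'' ≫ v') (by rw [hb'.w, Category.assoc, hv'])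
    have hk1 : k ≫ jY = jY'' := hb.lift_fst _ _ _
    have hk2 : k ≫ b' = b'' ≫ v' := hb.lift_snd _ _ _
    let l : X'' ⟶ X' := hf.lift jX'' (f'' ≫ k) (by rw [hf'.w, Category.assoc, hk1])
    have hl1 : l ≫ jX = jX'' := hf.lift_fst _ _ _
    have hl2 : l ≫ f' = f'' ≫ k := hf.lift_snd _ _ _
    have sq1 : IsPullback k b'' b' v' := by
      refine IsPullback.of_right (h₁₂ := jY) (h₂₂ := s) (v₁₃ := b) ?_ hk2 hb
      rw [hk1, hv']; exact hb'
    have sq2 : IsPullback l f'' f' k := by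
      refine IsPullback.of_right (h₁₂ := jX) (h₂₂ := jY) (v₁₃ := f) ?_ hl2 hf
      rw [hk1, hl1]; exact hf'
    have h1 := h v' b'' k f'' l (by
      rintro _ ⟨x, rfl⟩
      obtain ⟨y, hy, hyx⟩ := hv ⟨x, rfl⟩
      have h3 : s (v' x) = v x := by rw [← Scheme.Hom.comp_apply, hv']
      have h4 : v' x = y := s.isOpenEmbedding.injective (h3.trans hyx.symm)
      rw [h4]
      exact hy) sq1 sq2 t
    obtain ⟨e⟩ := nonempty_pullD_comp hl1 K
    exact C.of_iso e h1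

end Groth.Agent.An.H495.CompCalc
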