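import Mathlib.AlgebraicGeometry.Morphisms.UniversallyInjective
import Mathlib.AlgebraicGeometry.Morphisms.Finite
import Mathlib.AlgebraicGeometry.Morphisms.ClosedImmersion
import Mathlib.AlgebraicGeometry.FunctionField
import Mathlib.AlgebraicGeometry.Morphisms.SchemeTheoreticallyDominant
import Mathlib.FieldTheory.PurelyInseparable.Basic
import Mathlib.FieldTheory.PurelyInseparable.Tower
import Mathlib.FieldTheory.IsAlgClosed.AlgebraicClosure

/-!
# Finite radicial surjective morphisms of integral schemes in characteristic `0`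

are isomorphisms over a nonempty open subset.
-/

set_option autoImplicit false
universe u

open CategoryTheory CategoryTheory.Limits AlgebraicGeometry

namespace Groth.Agent.An.H495.RadZero

section alg

variable {A B : Type u} [CommRing A] [CommRing B] [Algebra A B] [IsDomain A] [IsDomain B]

/-- A finite radicial injective map of domains of characteristic `0` is generically surjective. -/
theorem exists_denom [CharZero A] [Module.Finite A B] (hinj : Function.Injective (algebraMap A B))
    (hK : ∀ (K : Type u) [Field K] (g₁ g₂ : B →+* K),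
      g₁.comp (algebraMap A B) = g₂.comp (algebraMap A B) → g₁ = g₂) :
    ∃ c : A, c ≠ 0 ∧ ∀ x : B, ∃ d : A, algebraMap A B c * x = algebraMap A B d := by
  have : FaithfulSMul A B := (faithfulSMul_iff_algebraMap_injective A B).2 hinj
  let K := FractionRing A
  let L := FractionRing B
  let φ : K →+* L := IsFractionRing.map (A := A) (B := B) (K := K) (L := L) hinj
  have hφ : ∀ a : A, φ (algebraMap A K a) = algebraMap B L (algebraMap A B a) := fun a =>
    IsLocalization.map_eq _ a
  let : Algebra K L := φ.toAlgebra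
  have hφ' : ∀ a : A, algebraMap K L (algebraMap A K a) = algebraMap B L (algebraMap A B a) := hφ
  have : CharZero K := charZero_of_injective_algebraMap (IsFractionRing.injective A K)
  have hpi : IsPurelyInseparable K L := by
    have : Nonempty (L →+* AlgebraicClosure L) := ⟨algebraMap _ _⟩
    refine IsPurelyInseparable.of_injective_comp_algebraMap _ _ (AlgebraicClosure L) ?_
    intro g₁ g₂ h12
    have h1 : g₁.comp (algebraMap B _) = g₂.comp (algebraMap B _) := by
      refine hK _ _ _ ?_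
      ext a
      have := RingHom.congr_fun h12 (algebraMap A _ a)
      simpa [hφ'] using this
    exact IsLocalization.ringHom_ext (nonZeroDivisors B) h1
  have hsurj : Function.Surjective (algebraMap K L) := by
    have : Algebra.IsSeparable K L := inferInstance
    exact IsPurelyInseparable.surjective_algebraMap_of_isSeparable K L
  have key : ∀ x : B, ∃ c : A, c ≠ 0 ∧ ∃ d : A, algebraMap A B c * x = algebraMap A B d := by
    intro x
    obtain ⟨y, hy⟩ := hsurj (algebraMap B L x)
    obtain ⟨d, c, hc, rfl⟩ := IsFractionRing.div_surjective (A := A) y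
    refine ⟨c, nonZeroDivisors.ne_zero hc, d, ?_⟩
    apply IsFractionRing.injective B L
    have hc' : algebraMap A K c ≠ 0 := by
      rw [Ne, IsFractionRing.to_map_eq_zero_iff]
      exact nonZeroDivisors.ne_zero hc
    rw [map_mul, ← hy, map_div₀, hφ', hφ', mul_div_cancel₀]
    rw [← hφ', Ne, map_eq_zero]
    exact hc'
  -- common denominator
  obtain ⟨s, hs⟩ := Module.Finite.fg_top (R := A) (M := B)
  choose c hc0 d hcd using key
  refine ⟨∏ x ∈ s, c x, Finset.prod_ne_zero_iff.2 fun x _ => hc0 x, fun x => ?_⟩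
  have hx : x ∈ Submodule.span A (s : Set B) := by rw [hs]; trivial
  induction hx using Submodule.span_induction with
  | mem x hx =>
    classical
    refine ⟨(∏ y ∈ s.erase x, c y) * d x, ?_⟩
    rw [← Finset.prod_erase_mul s c hx, map_mul, map_mul, mul_assoc, hcd x]
  | zero => exact ⟨0, by rw [mul_zero, map_zero]⟩
  | add x y _ _ hx hy =>
    obtain ⟨a, ha⟩ := hx
    obtain ⟨b, hb⟩ := hy
    exact ⟨a + b, by rw [mul_add, ha, hb, map_add]⟩
  | smul r x _ hx =>
    obtain ⟨a, ha⟩ := hx
    refine ⟨r * a, ?_⟩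
    rw [Algebra.smul_def, ← mul_assoc, mul_comm (algebraMap A B _) (algebraMap A B r), mul_assoc, ha, map_mul]

end alg

theorem exists_mul_eq {X : Scheme.{u}} [IsAffine X] (g : Γ(X, ⊤)) (V : X.Opens) (hV : V = X.basicOpen g)
    (x : Γ(X, V)) : ∃ (n : ℕ) (a : Γ(X, ⊤)),
      X.presheaf.map (homOfLE le_top : V ⟶ ⊤).op g ^ n * x = X.presheaf.map (homOfLE le_top : V ⟶ ⊤).op a := by
  subst hV
  have hloc : IsLocalization.Away g Γ(X, X.basicOpen g) := (isAffineOpen_top X).isLocalization_basicOpen g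
  obtain ⟨n, a, ha⟩ := IsLocalization.Away.surj g x
  refine ⟨n, a, ?_⟩
  rw [mul_comm]
  exact ha

/-- The affine case. -/
theorem exists_isIso_restrict_of_isAffine {X Y : Scheme.{u}} [IsAffine Y] [IsIntegral X] [IsIntegral Y] (f : X ⟶ Y)
    [IsFinite f] [UniversallyInjective f] [Surjective f] [CharZero Γ(Y, ⊤)] :
    ∃ c : Γ(Y, ⊤), c ≠ 0 ∧ IsIso (f ∣_ Y.basicOpen c) := by
  have hX : IsAffine X := isAffine_of_isAffineHom f
  algebraize [f.appTop.hom]
  have hfin : Module.Finite Γ(Y, ⊤) Γ(X, ⊤) := by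
    exact f.finite_appTop
  have hinj : Function.Injective (algebraMap Γ(Y, ⊤) Γ(X, ⊤)) := by
    have : IsSchemeTheoreticallyDominant f := .of_isDominant f
    exact f.app_injective ⊤
  have hinj2 : ∀ (K : Type u) [Field K], Function.Injective (fun g : Spec (.of K) ⟶ X ↦ g ≫ f) :=
    ((tfae_universallyInjective f).out 0 1).1 ‹_›
  have hK : ∀ (K : Type u) [Field K] (g₁ g₂ : Γ(X, ⊤) →+* K),
      g₁.comp (algebraMap Γ(Y, ⊤) Γ(X, ⊤)) = g₂.comp (algebraMap Γ(Y, ⊤) Γ(X, ⊤)) → g₁ = g₂ := by
    intro K _ g₁ g₂ h12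
    have h2 : Function.Injective (fun g : Spec (.of K) ⟶ X ↦ g ≫ f) :=
      hinj2 K
    have h3 : Spec.map (CommRingCat.ofHom g₁) ≫ X.isoSpec.inv = Spec.map (CommRingCat.ofHom g₂) ≫ X.isoSpec.inv := by
      apply h2
      show (Spec.map (CommRingCat.ofHom g₁) ≫ X.isoSpec.inv) ≫ f = (Spec.map (CommRingCat.ofHom g₂) ≫ X.isoSpec.inv) ≫ f
      rw [Category.assoc, Category.assoc, ← Scheme.isoSpec_inv_naturality, ← Spec.map_comp_assoc, ← Spec.map_comp_assoc]
      congr 2
      exact CommRingCat.hom_ext h12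
    have h4 := Spec.map_injective ((cancel_mono _).1 h3)
    exact congrArg CommRingCat.Hom.hom h4
  obtain ⟨c, hc, h⟩ := exists_denom hinj hK
  refine ⟨c, hc, ?_⟩
  have hU : IsAffineOpen (Y.basicOpen c) := (isAffineOpen_top Y).basicOpen c
  have hUa : IsAffine (Y.basicOpen c).toScheme := hU
  have hVa : IsAffine (f ⁻¹ᵁ Y.basicOpen c).toScheme := hU.preimage f
  have hcl : IsClosedImmersion (f ∣_ Y.basicOpen c) := by
    refine IsClosedImmersion.of_surjective_of_isAffine _ ?_
    rw [morphismRestrict_appTop]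
    have hsurj : Function.Surjective (f.app (Y.basicOpen c)) := by
      intro x
      obtain ⟨n, a, ha⟩ := exists_mul_eq (f.appTop c) (f ⁻¹ᵁ Y.basicOpen c)
        (Scheme.preimage_basicOpen_top f c) x
      obtain ⟨d, hd⟩ := h a
      have hu : IsUnit (Y.presheaf.map (homOfLE le_top : Y.basicOpen c ⟶ ⊤).op c) :=
        RingedSpace.isUnit_res_basicOpen _ c
      obtain ⟨u, hu⟩ := hu
      have hnat : ∀ y : Γ(Y, ⊤), f.app (Y.basicOpen c) (Y.presheaf.map (homOfLE le_top : Y.basicOpen c ⟶ ⊤).op y) =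
          X.presheaf.map (homOfLE le_top : f ⁻¹ᵁ Y.basicOpen c ⟶ ⊤).op (f.appTop y) := by
        intro y
        rw [← ConcreteCategory.comp_apply, f.naturality]
        rfl
      refine ⟨((u⁻¹ : Γ(Y, Y.basicOpen c)ˣ) : Γ(Y, Y.basicOpen c)) ^ (n + 1) *
        Y.presheaf.map (homOfLE le_top : Y.basicOpen c ⟶ ⊤).op d, ?_⟩
      have h1 : f.app (Y.basicOpen c) ((u : Γ(Y, Y.basicOpen c)) ^ (n + 1)) * x =
          f.app (Y.basicOpen c) (Y.presheaf.map (homOfLE le_top : Y.basicOpen c ⟶ ⊤).op d) := by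
        rw [map_pow, hu, hnat, hnat, pow_succ', mul_assoc, ha, ← map_mul]
        exact congrArg _ hd
      rw [map_mul, ← h1, ← mul_assoc, ← map_mul, ← mul_pow, Units.inv_mul, one_pow, map_one, one_mul]
    have hsurj' : ∀ V : Y.Opens, V = Y.basicOpen c → Function.Surjective (f.app V) := by
      rintro _ rfl
      exact hsurj
    have h3 : Function.Surjective (X.presheaf.map
        (eqToHom (image_morphismRestrict_preimage f (Y.basicOpen c) ⊤)).op) :=
      (ConcreteCategory.bijective_of_isIso _).2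
    have h4 : Function.Surjective (f.app ((Y.basicOpen c).ι ''ᵁ ⊤)) := hsurj' _ (by simp)
    intro z
    obtain ⟨z₁, rfl⟩ := h3 z
    obtain ⟨z₂, rfl⟩ := h4 z₁
    exact ⟨z₂, rfl⟩
  have hs : Surjective (f ∣_ Y.basicOpen c) :=
    MorphismProperty.of_isPullback (P := @Surjective) (isPullback_morphismRestrict f _).flip ‹_›
  exact isIso_of_isClosedImmersion_of_surjective _

/-- Finite radicial surjective morphisms of integral schemes of characteristic `0` are generically isomorphisms. -/
theorem exists_isIso_restrict {X Y : Scheme.{u}} [IsIntegral X] [IsIntegral Y] (f : X ⟶ Y)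
    [IsFinite f] [UniversallyInjective f] [Surjective f] (h0 : ∀ n : ℕ, n ≠ 0 → (n : Γ(Y, ⊤)) ≠ 0) :
    ∃ U : Y.Opens, (U : Set Y).Nonempty ∧ IsIso (f ∣_ U) := by
  obtain ⟨W, hW, hne⟩ : ∃ W : Y.Opens, IsAffineOpen W ∧ (W : Set Y).Nonempty := by
    have y : Y := Classical.arbitrary Y
    obtain ⟨_, ⟨W, hW, rfl⟩, hy, -⟩ := Y.isBasis_affineOpens.exists_subset_of_mem_open (Set.mem_univ y) isOpen_univ
    exact ⟨W, hW, y, hy⟩
  obtain ⟨y, hy⟩ := hne
  have : Nonempty W.toScheme := ⟨⟨y, hy⟩⟩
  have hWa : IsAffine W.toScheme := hW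
  obtain ⟨x, rfl⟩ := f.surjective y
  have : Nonempty (f ⁻¹ᵁ W).toScheme := ⟨⟨x, hy⟩⟩
  have : IsIntegral W.toScheme := isIntegral_of_isOpenImmersion W.ι
  have : IsIntegral (f ⁻¹ᵁ W).toScheme := isIntegral_of_isOpenImmersion (f ⁻¹ᵁ W).ι
  have : UniversallyInjective (f ∣_ W) :=
    MorphismProperty.of_isPullback (P := @UniversallyInjective) (isPullback_morphismRestrict f _).flip ‹_›
  have : Surjective (f ∣_ W) :=
    MorphismProperty.of_isPullback (P := @Surjective) (isPullback_morphismRestrict f _).flip ‹_›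
  have : CharZero Γ(W.toScheme, ⊤) := by
    refine charZero_of_inj_zero fun n hn => ?_
    by_contra hn0
    refine h0 n hn0 ?_
    have hinj : Function.Injective (Y.presheaf.map (homOfLE le_top : W.ι ''ᵁ ⊤ ⟶ ⊤).op) := by
      have : Nonempty (W.ι ''ᵁ ⊤).toScheme := ⟨⟨f x, ⟨f x, hy⟩, trivial, rfl⟩⟩
      exact map_injective_of_isIntegral Y _
    apply hinj
    exact (map_natCast (Y.presheaf.map (homOfLE le_top : W.ι ''ᵁ ⊤ ⟶ ⊤).op).hom n).trans
      (hn.trans (map_zero _).symm)
  obtain ⟨c, hc, hiso⟩ := exists_isIso_restrict_of_isAffine (f ∣_ W)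
  refine ⟨W.ι ''ᵁ W.toScheme.basicOpen c, ?_, ?_⟩
  · have h1 : W.toScheme.basicOpen c ≠ ⊥ := by
      rw [Ne, basicOpen_eq_bot_iff]
      exact hc
    obtain ⟨z, hz⟩ : ((W.toScheme.basicOpen c : W.toScheme.Opens) : Set W.toScheme).Nonempty := by
      rw [Set.nonempty_iff_ne_empty]
      intro h2
      exact h1 (TopologicalSpace.Opens.ext h2)
    exact ⟨W.ι z, z, hz, rfl⟩
  · exact ((MorphismProperty.isomorphisms Scheme.{u}).arrow_mk_iso_iff
      (morphismRestrictRestrict f W (W.toScheme.basicOpen c))).1 hiso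

end Groth.Agent.An.H495.RadZero
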