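import Groth.Prelude.Def_AnPts
import Groth.Agent.VarietyA.SmoothReg

/-!
# Smoothness over `ℂ` of opens for all structures

On a reduced scheme which is locally of finite type over `ℂ` on some nonempty open, there is a nonempty open `U`
such that all structures of locally finite type on opens of `U` are smooth.
-/

set_option autoImplicit false

open CategoryTheory CategoryTheory.Limits AlgebraicGeometry

namespace Groth.Agent.An.H495.SmoothOpen

theorem isRegular_iff {V B : Scheme.{0}} (v : V ⟶ B) [IsOpenImmersion v] (x : V) :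
    IsRegularLocalRing (V.presheaf.stalk x) ↔ IsRegularLocalRing (B.presheaf.stalk (v x)) := by
  have e : B.presheaf.stalk (v x) ≃+* V.presheaf.stalk x := (asIso (v.stalkMap x)).commRingCatIsoToRingEquiv
  exact ⟨fun _ => IsRegularLocalRing.of_ringEquiv e.symm, fun _ => IsRegularLocalRing.of_ringEquiv e⟩

theorem exists_smooth_open {B V₀ : Scheme.{0}} [IsReduced B] (v₀ : V₀ ⟶ B) [IsOpenImmersion v₀] [Nonempty V₀]
    (s₀ : V₀ ⟶ An.SC) [LocallyOfFiniteType s₀] : ∃ U : B.Opens, (U : Set B).Nonempty ∧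
      ∀ {V : Scheme.{0}} (v : V ⟶ B) [IsOpenImmersion v], Set.range v ⊆ (U : Set B) →
        ∀ (s : V ⟶ An.SC) [LocallyOfFiniteType s], Smooth s := by
  have : IsReduced V₀ := isReduced_of_isOpenImmersion v₀
  have hd := Scheme.Hom.dense_smoothLocus_of_perfectField s₀
  obtain ⟨y, hy⟩ := hd.nonempty
  refine ⟨v₀ ''ᵁ s₀.smoothLocus, ⟨v₀ y, y, hy, rfl⟩, fun {V} v _ hv s _ => ?_⟩
  rw [← Scheme.Hom.smoothLocus_eq_top_iff, eq_top_iff]
  intro x _
  rw [Groth.Agent.VarietyA.SmoothReg.mem_smoothLocus_iff_of_perfectField, isRegular_iff v x]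
  obtain ⟨z, hz, hzx⟩ := hv ⟨x, rfl⟩
  change v₀ z = v x at hzx
  rw [← hzx, ← isRegular_iff v₀ z, ← Groth.Agent.VarietyA.SmoothReg.mem_smoothLocus_iff_of_perfectField s₀ z]
  exact hz

/-- If some nonempty open of an integral scheme `B` has a `ℂ`-structure then `B` has characteristic `0`. -/
theorem natCast_ne_zero {B V₀ : Scheme.{0}} (v₀ : V₀ ⟶ B) [Nonempty V₀]
    (s₀ : V₀ ⟶ An.SC) (n : ℕ) (hn : n ≠ 0) : (n : Γ(B, ⊤)) ≠ 0 := by
  intro h
  have h1 : (n : Γ(V₀, ⊤)) = 0 := by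
    have := congrArg v₀.appTop.hom h
    rwa [map_natCast, map_zero] at this
  have h2 : IsUnit (n : Γ(V₀, ⊤)) := by
    have h3 : IsUnit (n : ℂ) := (Nat.cast_ne_zero.2 hn).isUnit
    have h4 := h3.map ((Scheme.ΓSpecIso (CommRingCat.of ℂ)).inv ≫ s₀.appTop).hom
    rwa [map_natCast] at h4
  rw [h1, isUnit_zero_iff] at h2
  have : Subsingleton Γ(V₀, ⊤) := subsingleton_of_zero_eq_one h2
  have : Nonempty (⊤ : V₀.Opens) := ⟨⟨Classical.arbitrary V₀, trivial⟩⟩
  exact (not_subsingleton_iff_nontrivial.2 (inferInstance : Nontrivial Γ(V₀, ⊤))) ‹_›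

end Groth.Agent.An.H495.SmoothOpen
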