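import Groth.Agent.An.H495.CompStep
import Groth.Agent.An.H495.RadZero
import Groth.Agent.An.H495.SmoothOpen

/-!
# The curve case for `CG`
-/

set_option autoImplicit false

open CategoryTheory CategoryTheory.Limits Opposite AlgebraicGeometry Pretriangulated
open DerivedCategory (homologyFunctor singleFunctor)

attribute [local instance] HasDerivedCategory.standard

namespace Groth.Agent.An.H495.CompCalc

open Groth.Agent.Etrest.DEtPush Groth.Agent.Sga4h Groth.Agent.Sga4h.AdmCx Groth.Agent.Sga4h.IndCalc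
  Groth.Agent.Sga4h.GcGen Groth.Agent.Sga4h.MainInd Groth.Agent.Sga4h.GcCurve641

variable {m : ℕ} {C : CompCalc m} {X Y Z S W V T Q X' Y' Z' S' V' B D : Scheme.{0}}

theorem CG.shiftUp [IrreducibleSpace S] {b : Y ⟶ S} {f : X ⟶ Y} [FT b] [FT f] {K : DCoh.DEt X}
    (h : CG C b f K) : CG C b f (K⟦(1 : ℤ)⟧) :=
  CG.three (contractible_distinguished₂ K) h (CG.zero b f _ (isZero_zero _))

theorem CG.two [IrreducibleSpace S] {b : Y ⟶ S} {f : X ⟶ Y} [FT b] [FT f]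
    {T : Triangle (DCoh.DEt X)} (hT : T ∈ (distTriang (DCoh.DEt X))) (h₁ : CG C b f T.obj₁)
    (h₃ : CG C b f T.obj₃) : CG C b f T.obj₂ :=
  CG.one (rot_of_distTriang _ hT) h₃ (CG.shiftUp h₁)

theorem mem_range_snd_iff {f : X ⟶ Z} {g : Y ⟶ Z} {fst : W ⟶ X} {snd : W ⟶ Y} (h : IsPullback fst snd f g)
    (y : Y) : y ∈ Set.range snd ↔ g y ∈ Set.range f := by
  constructor
  · rintro ⟨w, rfl⟩
    exact ⟨fst w, by rw [← Scheme.Hom.comp_apply, h.w, Scheme.Hom.comp_apply]⟩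
  · rintro ⟨x, hx⟩
    obtain ⟨z, hz1, hz2⟩ := Scheme.Pullback.exists_preimage_pullback x y hx
    refine ⟨h.isoPullback.inv z, ?_⟩
    rw [← hz2, ← Scheme.Hom.comp_apply, h.isoPullback_inv_snd]

theorem adm_const {ℓ : ℕ} [NeZero ℓ] (hd : ℓ ∣ m) (X : Scheme.{0}) :
    Adm m ((singleFunctor _ 0).obj (EtCoh.const X (ZMod ℓ))) :=
  adm_of_dvd hd (Adm.single (RC91.cm_const X ℓ) 0)

/-- The curve case, after the choice of a compactification. -/
theorem p_const (hm : 0 < m) {ℓ : ℕ} (hℓ : ℓ.Prime) (hd : ℓ ∣ m) {E C' Yt : Scheme.{0}} {p : T ⟶ B}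
    {a : Yt ⟶ B} {q : Q ⟶ Yt} {j : C' ⟶ Q} {i : E ⟶ Q} {b : C' ⟶ T} (h5 : IsPullback b (j ≫ q) p a)
    [IsProper q] [SmoothOfRelativeDimension 1 q] [IsOpenImmersion j] [IsClosedImmersion i] [Etale (i ≫ q)]
    (h12 : Set.range i = (Set.range j)ᶜ) (jY : Y' ⟶ B) (s : Y' ⟶ An.SC) [FT s] [Smooth s] (f' : X' ⟶ Y')
    (jX : X' ⟶ T) (h : IsPullback jX f' p jY) (y : Y' ⟶ Yt) (hy : y ≫ a = jY) :
    C.P s f' ((singleFunctor _ 0).obj (EtCoh.const X' (ZMod ℓ))) := by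
  have : NeZero ℓ := ⟨hℓ.ne_zero⟩
  let x : X' ⟶ C' := h5.lift jX (f' ≫ y) (by rw [h.w, Category.assoc, hy])
  have hx1 : x ≫ b = jX := h5.lift_fst _ _ _
  have hx2 : x ≫ j ≫ q = f' ≫ y := h5.lift_snd _ _ _
  have sq : IsPullback x f' (j ≫ q) y := by
    refine IsPullback.of_right (h₁₂ := b) (h₂₂ := a) (v₁₃ := p) ?_ hx2 h5
    rw [hx1, hy]
    exact h
  obtain ⟨Q', yQ, j', q', rfl, hj, hq⟩ := exists_factor sq
  have i1 : IsProper q' := isProper_of_isPullback hq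
  have hst := smoothOfRelativeDimension_isStableUnderBaseChange.{0} 1
  have i2 : SmoothOfRelativeDimension 1 q' :=
    MorphismProperty.of_isPullback (P := @SmoothOfRelativeDimension 1) hq ‹_›
  have i3 : IsOpenImmersion j' := MorphismProperty.of_isPullback (P := @IsOpenImmersion) hj ‹_›
  have sqE : IsPullback (pullback.fst i yQ) (pullback.snd i yQ) i yQ := IsPullback.of_hasPullback _ _
  have i4 : Etale (pullback.snd i yQ ≫ q') :=
    MorphismProperty.of_isPullback (P := @Etale) (sqE.paste_vert hq) ‹_›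
  have hr : Set.range (pullback.snd i yQ) = (Set.range j')ᶜ := by
    ext z
    rw [Set.mem_compl_iff, mem_range_snd_iff sqE, mem_range_snd_iff hj, h12]
    rfl
  have i5 : FT q' := FT.of _
  have i6 : FT (q' ≫ s) := ft_comp _ _
  have i7 : IsNoetherian Q' := noeth_of_ft (q' ≫ s)
  have i8 : FT j' := ft_of_open j'
  exact C.comp (C.curve s q' j' (pullback.snd i yQ) hr ℓ hℓ hd)
    (C.proper s q' _ (adm_push hm (q' ≫ s) j' _ (adm_const hd _)))

theorem cg_const (hm : 0 < m) {ℓ : ℕ} (hℓ : ℓ.Prime) (hd : ℓ ∣ m) [IsAffine B] [IsIntegral B]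
    [IsNoetherian B] (p : T ⟶ B) [SmoothOfRelativeDimension 1 p] [IsSeparated p] [QuasiCompact p] :
    CG C (𝟙 B) p ((singleFunctor _ 0).obj (EtCoh.const T (ZMod ℓ))) := by
  by_cases hex : ∃ (V₀ : Scheme.{0}) (v₀ : V₀ ⟶ B) (_ : IsOpenImmersion v₀) (_ : Nonempty V₀) (s₀ : V₀ ⟶ An.SC),
    LocallyOfFiniteType s₀
  swap
  · refine ⟨⊤, Set.univ_nonempty, fun {X' Y' V} v _ b' jY f' jX _ _ _ s _ => C.zero _ _ _ ?_⟩
    have hV : IsEmpty V := by
      rw [← not_nonempty_iff]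
      intro h
      exact hex ⟨V, v, ‹_›, h, s, inferInstance⟩
    have : IsEmpty X' := Function.isEmpty (fun x => b' (f' x))
    exact isZero_of_isEmpty _
  obtain ⟨V₀, v₀, _, _, s₀, _⟩ := hex
  obtain ⟨U₀, hU₀, hsm⟩ := SmoothOpen.exists_smooth_open v₀ s₀
  obtain ⟨Y₁, hY₁, hY₁a, Yt, a, Q, E, C', q, j, i, b, h1, h2, h3, h4, h5, h6, h7, h8, h9, h10, h11, h12⟩ :=
    GeoCompact.exists_smooth_compactification p
  obtain ⟨y₁, hy₁⟩ := hY₁
  have hne : Nonempty Y₁.toScheme := ⟨⟨y₁, hy₁⟩⟩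
  have hint : IsIntegral Y₁.toScheme := isIntegral_of_isOpenImmersion Y₁.ι
  obtain ⟨U₂, hU₂, hiso⟩ := RadZero.exists_isIso_restrict a (fun n hn h0 => by
    have hinj : Function.Injective (B.presheaf.map (homOfLE le_top : Y₁.ι ''ᵁ ⊤ ⟶ ⊤).op) := by
      have : Nonempty (Y₁.ι ''ᵁ ⊤).toScheme := ⟨⟨y₁, ⟨y₁, hy₁⟩, trivial, rfl⟩⟩
      exact map_injective_of_isIntegral B _
    refine SmoothOpen.natCast_ne_zero v₀ s₀ n hn (hinj ?_)
    exact (map_natCast (B.presheaf.map (homOfLE le_top : Y₁.ι ''ᵁ ⊤ ⟶ ⊤).op).hom n).trans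
      (h0.trans (map_zero _).symm))
  have hU₂' : ((Y₁.ι ''ᵁ U₂ : B.Opens) : Set B).Nonempty := by
    obtain ⟨z, hz⟩ := hU₂
    exact ⟨Y₁.ι z, z, hz, rfl⟩
  refine ⟨Y₁.ι ''ᵁ U₂ ⊓ U₀, exists_common₂ hU₂' hU₀, fun {X' Y' V} v _ b' jY f' jX hv hb hf s _ => ?_⟩
  have hb' : IsIso b' :=
    MorphismProperty.of_isPullback (P := MorphismProperty.isomorphisms Scheme.{0}) hb (inferInstanceAs (IsIso (𝟙 B)))
  have hjY : jY = b' ≫ v := by rw [← hb.w, Category.comp_id]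
  have i0 : IsOpenImmersion jY := by rw [hjY]; infer_instance
  have i1 : FT b' := FT.of _
  have i2 : FT (b' ≫ s) := ft_comp _ _
  have hrU : Set.range jY ⊆ ((Y₁.ι ''ᵁ U₂ ⊓ U₀ : B.Opens) : Set B) := by
    rw [hjY]
    rintro _ ⟨z, rfl⟩
    exact hv ⟨b' z, rfl⟩
  have i3 : Smooth (b' ≫ s) := hsm jY (hrU.trans fun _ h => h.2) (b' ≫ s)
  obtain ⟨e⟩ := nonempty_pullD_const jX (ZMod ℓ)
  refine C.of_iso e.symm ?_
  -- the section `Y' ⟶ Yt`
  have hrange : Set.range jY ⊆ Set.range (U₂.ι ≫ Y₁.ι) := by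
    intro z hz
    obtain ⟨w, hw, hwz⟩ := (hrU hz).1
    exact ⟨⟨w, hw⟩, hwz⟩
  let l : Y' ⟶ U₂.toScheme := IsOpenImmersion.lift (U₂.ι ≫ Y₁.ι) jY hrange
  have hl : l ≫ U₂.ι ≫ Y₁.ι = jY := IsOpenImmersion.lift_fac _ _ _
  let y : Y' ⟶ Yt := l ≫ inv (a ∣_ U₂) ≫ (a ⁻¹ᵁ U₂).ι
  have hy : y ≫ a ≫ Y₁.ι = jY := by
    have h13 : (a ∣_ U₂) ≫ U₂.ι = (a ⁻¹ᵁ U₂).ι ≫ a := morphismRestrict_ι a U₂
    rw [← hl]
    simp only [y, Category.assoc]
    congr 1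
    rw [IsIso.inv_comp_eq]
    rw [← reassoc_of% h13]
  exact p_const hm hℓ hd h5 h12 jY (b' ≫ s) f' jX hf y hy

/-- Closure conditions for the dévissage of finite locally constant sheaves. -/
theorem cl_cg [IrreducibleSpace S] (b : Y ⟶ S) (f : X ⟶ Y) [FT b] [FT f] :
    PrimeDev219.Cl (fun F : EtCoh.Ab X => CG C b f ((singleFunctor _ 0).obj F)) where
  retract i r h hG := by
    refine CG.retract ((singleFunctor _ 0).map i) ((singleFunctor _ 0).map r) ?_ hG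
    rw [← Functor.map_comp, h, CategoryTheory.Functor.map_id]
  ext {S} hS h1 h3 := CG.two hS.singleTriangle_distinguished h1 h3

/-- The curve case. -/
theorem cg_curve (hm : 0 < m) {Z B : Scheme.{0}} [IsAffine B] [IsIntegral B] [IsNoetherian B] (q : Z ⟶ B)
    [SmoothOfRelativeDimension 1 q] [IsSeparated q] [QuasiCompact q] (F : EtCoh.Ab Z)
    (hF : EtCoh.IsFiniteLocallyConstant F) (N : ℕ) (hN : EtCoh.KilledBy (m ^ N) F) :
    CG C (𝟙 B) q ((singleFunctor _ 0).obj F) := by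
  have hsm : Smooth q := SmoothOfRelativeDimension.smooth 1 q
  have hZ : IsNoetherian Z := isNoetherian_of_ft q
  have i1 : FT (𝟙 B) := ft_id B
  have i2 : FT q := FT.of q
  refine PrimeDevN219.of_killed (m ^ N) (pow_ne_zero _ hm.ne') (cl_cg (𝟙 B) q) (fun G hG => ?_)
    (fun ℓ hℓ hdvd T ρ _ _ => ?_) F hF hN
  · exact CG.zero _ _ _ ((singleFunctor _ 0).map_isZero hG)
  · have hdvd' : ℓ ∣ m := hℓ.dvd_of_dvd_pow hdvd
    have : NeZero ℓ := ⟨hℓ.ne_zero⟩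
    have h0 : SmoothOfRelativeDimension 0 ρ := (Etale.iff_smoothOfRelativeDimension_zero ρ).1 ‹_›
    have h1 : SmoothOfRelativeDimension 1 (ρ ≫ q) :=
      (inferInstance : SmoothOfRelativeDimension (0 + 1) (ρ ≫ q))
    have i3 : FT ρ := FT.of ρ
    obtain ⟨e1⟩ := nonempty_pushD_single ρ (EtCoh.const T (ZMod ℓ))
    have h2 : CG C (𝟙 B) (ρ ≫ q) ((singleFunctor _ 0).obj (EtCoh.const T (ZMod ℓ))) := cg_const hm hℓ hdvd' (ρ ≫ q)
    have h3 : CG C (q ≫ 𝟙 B) ρ ((singleFunctor _ 0).obj (EtCoh.const T (ZMod ℓ))) := by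
      have : FT (q ≫ 𝟙 B) := ft_comp _ _
      exact CG.proper _ _ _ (adm_const hdvd' _)
    exact CG.of_iso e1 (CG.of_comp h3 h2)

end Groth.Agent.An.H495.CompCalc
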