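import Groth.Agent.An.H495.CompCurve
import Groth.Agent.Sga4h.MainInd5

/-!
# The abstract induction for the comparison of `Rf_*`

`main`: a predicate with the closure properties `CompCalc m` holds for all morphisms `f : X ⟶ Y` of finite type
between schemes of (locally) finite type over `ℂ` and all admissible complexes.
-/

set_option autoImplicit false

open CategoryTheory CategoryTheory.Limits Opposite AlgebraicGeometry Pretriangulated
open DerivedCategory (homologyFunctor singleFunctor)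

attribute [local instance] HasDerivedCategory.standard

namespace Groth.Agent.An.H495.CompCalc

open Groth.Agent.Etrest.DEtPush Groth.Agent.Sga4h Groth.Agent.Sga4h.AdmCx Groth.Agent.Sga4h.IndCalc
  Groth.Agent.Sga4h.GcGen Groth.Agent.Sga4h.MainInd

variable {m : ℕ} {X Y Z S W V T Q X' Y' Z' S' V' B D : Scheme.{0}}

theorem curveAdm (m : ℕ) : GcCalc641.CurveAdm.{0} m := by
  refine GcCurve641.curveAdm (fun ℓ hℓ Q C E Y _ p _ _ _ j _ i _ _ h hu => ?_)
      (fun m hm P Y p _ _ L h => Groth.Agent.Sga4h.AdmProper.pushD_proper p hm h) m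
  have : Fact ℓ.Prime := ⟨hℓ⟩
  exact Groth.Agent.Sga4h.RC91.adm_compl p j i h ℓ hu

/-- The calculus of generic admissibility. -/
def cG (hm : 0 < m) : Calc.{0} m := GcCalc641.calcGen m (properAdm hm) (curveAdm m)

/-- The calculus of the generic comparison. -/
def calcCG (C : CompCalc m) (hm : 0 < m) : Calc.{0} m where
  G b f K := (cG hm).G b f K ∧ CG C b f K
  of_iso e h := ⟨(cG hm).of_iso e h.1, h.2.of_iso e⟩
  zero {X Y S} _ b f K h := by
    have := Bas.int (m := m) (S := S)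
    exact ⟨(cG hm).zero b f K h, CG.zero b f K h⟩
  one {X Y S} _ b f _ _ T hT h2 h3 := by
    have := Bas.int (m := m) (S := S)
    exact ⟨(cG hm).one hT h2.1 h3.1, CG.one hT h2.2 h3.2⟩
  three {X Y S} _ b f _ _ T hT h1 h2 := by
    have := Bas.int (m := m) (S := S)
    exact ⟨(cG hm).three hT h1.1 h2.1, CG.three hT h1.2 h2.2⟩
  comp {X Y Z S} _ c g f _ _ _ K h1 h2 := by
    have := Bas.int (m := m) (S := S)
    exact ⟨(cG hm).comp h1.1 h2.1, CG.comp h1.2 h2.2⟩
  of_comp {X Y Z S} _ c g f _ _ _ K h1 h2 := by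
    have := Bas.int (m := m) (S := S)
    exact ⟨(cG hm).of_comp h1.1 h2.1, CG.of_comp h1.2 h2.2⟩
  proper {Y Z S} _ c g _ _ K h := by
    have := Bas.int (m := m) (S := S)
    exact ⟨(cG hm).proper c g K h, CG.proper c g K h⟩
  pull_target {X Y S X' Y'} _ b f _ _ j _ f' j' hs K h :=
    ⟨(cG hm).pull_target j f' j' hs h.1, CG.pull_target j f' j' hs h.2⟩
  target {X Y S} _ b f _ _ ι _ Y' X' j _ f' j' hs hj K h := by
    have := Bas.int (m := m) (S := S)
    exact ⟨(cG hm).target b f Y' X' j f' j' hs hj K fun i => (h i).1,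
      CG.target b f Y' X' j f' j' hs hj K fun i => (h i).2⟩
  restrict {X Y S X' Y' S'} _ _ b f _ _ s _ b' jY f' jX hs hs' K := by
    have := Bas.int (m := m) (S := S)
    exact ⟨fun h => ⟨((cG hm).restrict s b' jY f' jX hs hs' K).1 h.1, CG.restrict s b' jY f' jX hs hs' K h.2⟩,
      fun h => ⟨((cG hm).restrict s b' jY f' jX hs hs' K).2 h.1, CG.of_restrict s b' jY f' jX hs hs' K h.2⟩⟩
  base {X Y B} _ b f _ _ K h := by
    have hB := Bas.int (m := m) (S := B)
    obtain ⟨D₁, hD₁, h1⟩ := (cG hm).base h.1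
    obtain ⟨D₂, hD₂, h2⟩ := cg_base h.2
    refine ⟨D₁ ⊓ D₂, exists_common₂ hD₁ hD₂, fun {X' Y' D} d _ b' jY f' jX hd hb hf => ?_⟩
    have h3 := h1 d b' jY f' jX (hd.trans fun _ h => h.1) hb hf
    refine ⟨h3.1, fun {S} _ c _ => ⟨h3.2 c, ?_⟩⟩
    exact h2 d b' jY f' jX (hd.trans fun _ h => h.2) hb hf c
  tstep {V W P T V' S} _ p _ w _ t _ hwt ht j _ j' w' h K hK h1 h2 :=
    ⟨(cG hm).tstep p w t hwt ht j j' w' h K hK h1.1 h2.1, cg_tstep hm p w t hwt ht j j' w' h K hK h1.2 h2.2⟩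
  curve {Z B} _ _ q _ _ F hF N hN := by
    have hB := Bas.int (m := m) (S := B)
    have hN' := Bas.noeth (m := m) (S := B)
    exact ⟨(cG hm).curve q F hF N hN, cg_curve hm q F hF N hN⟩

theorem opens_SC_eq_top {U : An.SC.Opens} (hU : (U : Set An.SC).Nonempty) : U = ⊤ := by
  rw [eq_top_iff]
  intro x _
  obtain ⟨y, hy⟩ := hU
  rwa [Subsingleton.elim x y]

theorem main_affine (C : CompCalc m) (hm : 0 < m) [IsAffine X] [IsAffine Y] (s : Y ⟶ An.SC) [FT s]
    (f : X ⟶ Y) [FT f] (K : DCoh.DEt X) (hK : Adm m K) : C.P s f K := by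
  have hbas : Bas m An.SC := ⟨inferInstance, inferInstance, isUnit_SC hm⟩
  obtain ⟨U, hU, h⟩ := (MainInd.main (calcCG C hm) s f K hK).2
  have hU' := opens_SC_eq_top hU
  subst hU'
  have i1 : FT (𝟙 An.SC) := ft_id _
  have h1 := h (𝟙 An.SC) s (𝟙 Y) f (𝟙 X) (fun _ _ => trivial) (IsPullback.of_horiz_isIso ⟨by simp⟩)
    (IsPullback.of_horiz_isIso ⟨by simp⟩) (𝟙 An.SC)
  rw [Category.comp_id] at h1
  obtain ⟨e⟩ := nonempty_pullId K
  exact C.of_iso e h1

/-- The comparison is local on the target. -/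
theorem of_affine_target (C : CompCalc m) (s : Y ⟶ An.SC) [LocallyOfFiniteType s] (f : X ⟶ Y) [FT f]
    (K : DCoh.DEt X) (h : ∀ V : Y.Opens, IsAffineOpen V →
      C.P (V.ι ≫ s) (f ∣_ V) ((pullD (f ⁻¹ᵁ V).ι).obj K)) : C.P s f K := by
  refine C.target s f (ι := Y.affineOpens) (fun V => V.1.toScheme) (fun V => (f ⁻¹ᵁ V.1).toScheme)
    (fun V => V.1.ι) (fun V => f ∣_ V.1) (fun V => (f ⁻¹ᵁ V.1).ι)
    (fun V => (isPullback_morphismRestrict f V.1).flip) (fun y => ?_) K fun V => h V.1 V.2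
  obtain ⟨_, ⟨V, hV, rfl⟩, hy, -⟩ := Y.isBasis_affineOpens.exists_subset_of_mem_open (Set.mem_univ y) isOpen_univ
  exact ⟨⟨V, hV⟩, ⟨y, hy⟩, rfl⟩

theorem isZero_restrict_push (j : V ⟶ X) [IsOpenImmersion j] (K : DCoh.DEt X) (O : X.Opens)
    (hK : IsZero ((pullD O.ι).obj K)) : IsZero ((pullD O.ι).obj ((pushD j).obj ((pullD j).obj K))) := by
  obtain ⟨e1⟩ := nonempty_bc_opens j O ((pullD j).obj K)
  obtain ⟨e2⟩ := nonempty_pullD_comp (rfl : (j ⁻¹ᵁ O).ι ≫ j = _) K
  obtain ⟨e3⟩ := nonempty_pullD_comp (morphismRestrict_ι j O) K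
  have h1 : IsZero ((pullD (j ∣_ O)).obj ((pullD O.ι).obj K)) := (pullD _).map_isZero hK
  exact ((pushD (j ∣_ O)).map_isZero (h1.of_iso (e2 ≪≫ e3.symm))).of_iso e1

theorem isZero_of_le {O O' : X.Opens} (h : O ≤ O') (K : DCoh.DEt X) (hK : IsZero ((pullD O'.ι).obj K)) :
    IsZero ((pullD O.ι).obj K) := by
  obtain ⟨e⟩ := nonempty_pullD_comp (Scheme.homOfLE_ι X h) K
  exact ((pullD _).map_isZero hK).of_iso e.symm

/-- The complement of a closed subset. -/
def co {X : Scheme.{0}} (T : TopologicalSpace.Closeds X) : X.Opens := T.compl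

/-- Noetherian induction on the support. -/
theorem ind_support (C : CompCalc m) (hm : 0 < m) (s : Y ⟶ An.SC) [FT s] (f : X ⟶ Y) [FT f]
    (hU : ∀ U : X.Opens, IsAffineOpen U → ∀ L : DCoh.DEt U.toScheme, Adm m L → C.P (f ≫ s) U.ι L)
    (hU' : ∀ U : X.Opens, IsAffineOpen U → ∀ L : DCoh.DEt U.toScheme, Adm m L → C.P s (U.ι ≫ f) L)
    (T : TopologicalSpace.Closeds X) (K : DCoh.DEt X) (hK : Adm m K)
    (hT : IsZero ((pullD (co T).ι).obj K)) : C.P s f K := by
  have i0 : FT (f ≫ s) := ft_comp _ _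
  have hXn : IsNoetherian X := noeth_of_ft (f ≫ s)
  induction T using WellFoundedLT.induction generalizing K with
  | _ T ih =>
    by_cases hne : (T : Set X).Nonempty
    swap
    · refine C.zero _ _ _ ?_
      refine OpenClosed.isZero_of_pullD (ι := Unit) (fun _ => (co T).ι) (fun x => ?_) K fun _ => hT
      have hx : x ∈ (co T) := fun h => hne ⟨x, h⟩
      exact ⟨(), ⟨x, hx⟩, rfl⟩
    obtain ⟨x, hx⟩ := hne
    obtain ⟨_, ⟨(U : X.Opens), hUa, rfl⟩, hxU, -⟩ := X.isBasis_affineOpens.exists_subset_of_mem_open (Set.mem_univ x) isOpen_univ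
    have i1 : FT U.ι := ft_of_open _
    have i2 : FT (U.ι ≫ f) := ft_comp _ _
    obtain ⟨L, g, δ, hTr, hL⟩ := GcMain.exists_triangle U.ι K
    have hKU : Adm m ((pullD U.ι).obj K) := hK.pull _
    have h1 : Adm m ((pushD U.ι).obj ((pullD U.ι).obj K)) := adm_push hm (f ≫ s) U.ι _ hKU
    have h2 : Adm m L := Adm.three hTr hK h1
    have h3 : C.P s f ((pushD U.ι).obj ((pullD U.ι).obj K)) :=
      C.of_comp (hU U hUa _ hKU) (hU' U hUa _ hKU)
    let T' : TopologicalSpace.Closeds X := ⟨(T : Set X) ∩ (U : Set X)ᶜ, T.2.inter U.2.isClosed_compl⟩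
    have hlt : T' < T := by
      refine lt_of_le_of_ne (fun y hy => hy.1) fun h => ?_
      have : x ∈ T' := by rw [h]; exact hx
      exact this.2 hxU
    have h4 : C.P s f L := by
      refine ih T' hlt L h2 ?_
      -- `L` vanishes on `Tᶜ ∪ U`
      have hz1 : IsZero ((pullD (co T).ι).obj L) := by
        have hd := (pullD (co T).ι).map_distinguished _ hTr
        refine (Triangle.isZero₃_iff_isIso₁ _ hd).2 ?_
        exact ⟨0, hT.eq_of_src _ _, (isZero_restrict_push U.ι K _ hT).eq_of_src _ _⟩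
      have hle1 : (co T) ≤ (co T') := fun y hy h => hy h.1
      have hle2 : U ≤ (co T') := fun y hy h => h.2 hy
      refine OpenClosed.isZero_of_pullD (ι := Bool)
        (T := fun i => cond i (co T).toScheme U.toScheme)
        (fun i => match i with
          | true => X.homOfLE hle1
          | false => X.homOfLE hle2) (fun y => ?_) _ fun i => ?_
      · by_cases hy : y.1 ∈ U
        · refine ⟨false, ⟨y.1, hy⟩, ?_⟩
          apply (co T').ι.isOpenEmbedding.injective
          rw [← Scheme.Hom.comp_apply, Scheme.homOfLE_ι]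
          rfl
        · have hy' : y.1 ∈ (co T) := fun h => y.2 ⟨h, hy⟩
          refine ⟨true, ⟨y.1, hy'⟩, ?_⟩
          apply (co T').ι.isOpenEmbedding.injective
          rw [← Scheme.Hom.comp_apply, Scheme.homOfLE_ι]
          rfl
      · match i with
        | true =>
          obtain ⟨e⟩ := nonempty_pullD_comp (Scheme.homOfLE_ι X hle1) L
          exact hz1.of_iso e
        | false =>
          obtain ⟨e⟩ := nonempty_pullD_comp (Scheme.homOfLE_ι X hle2) L
          exact hL.of_iso e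
    exact C.one hTr h3 h4

theorem ind_support' (C : CompCalc m) (hm : 0 < m) (s : Y ⟶ An.SC) [FT s] (f : X ⟶ Y) [FT f]
    (hU : ∀ U : X.Opens, IsAffineOpen U → ∀ L : DCoh.DEt U.toScheme, Adm m L → C.P (f ≫ s) U.ι L)
    (hU' : ∀ U : X.Opens, IsAffineOpen U → ∀ L : DCoh.DEt U.toScheme, Adm m L → C.P s (U.ι ≫ f) L)
    (K : DCoh.DEt X) (hK : Adm m K) : C.P s f K := by
  refine ind_support C hm s f hU hU' ⊤ K hK ?_
  have : IsEmpty ((co (⊤ : TopologicalSpace.Closeds X))).toScheme := ⟨fun x => x.2 trivial⟩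
  exact isZero_of_isEmpty _

/-- The case of a separated source over an affine target. -/
theorem main_separated (C : CompCalc m) (hm : 0 < m) [X.IsSeparated] [IsAffine Y] (s : Y ⟶ An.SC) [FT s]
    (f : X ⟶ Y) [FT f] (K : DCoh.DEt X) (hK : Adm m K) : C.P s f K := by
  have i0 : FT (f ≫ s) := ft_comp _ _
  have hXn : IsNoetherian X := noeth_of_ft (f ≫ s)
  refine ind_support' C hm s f (fun U hU L hL => ?_) (fun U hU L hL => ?_) K hK
  · have i1 : FT U.ι := ft_of_open _
    refine of_affine_target C (f ≫ s) U.ι L fun V hV => ?_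
    have i2 : FT V.ι := ft_of_open _
    have i3 : FT (V.ι ≫ f ≫ s) := ft_comp _ _
    have i4 : FT (U.ι ∣_ V) := ft_of_isPullback (isPullback_morphismRestrict U.ι V).flip
    have i5 : IsAffine V.toScheme := hV
    have i6 : IsAffine (U.ι ⁻¹ᵁ V).toScheme := by
      have h1 : IsAffineOpen (U ⊓ V) := hU.inf hV
      have h2 : U.ι ''ᵁ (U.ι ⁻¹ᵁ V) = U ⊓ V := by
        rw [Scheme.Hom.image_preimage_eq_opensRange_inf, Scheme.Opens.opensRange_ι]
      have h3 : IsAffineOpen (U.ι ''ᵁ (U.ι ⁻¹ᵁ V)) := by rw [h2]; exact h1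
      exact (U.ι.isAffineOpen_iff_of_isOpenImmersion).1 h3
    exact main_affine C hm (V.ι ≫ f ≫ s) (U.ι ∣_ V) _ (hL.pull _)
  · have i1 : FT U.ι := ft_of_open _
    have i2 : FT (U.ι ≫ f) := ft_comp _ _
    have i5 : IsAffine U.toScheme := hU
    exact main_affine C hm s (U.ι ≫ f) L hL

/-- The case of an affine target. -/
theorem main_affine_target (C : CompCalc m) (hm : 0 < m) [IsAffine Y] (s : Y ⟶ An.SC) [FT s]
    (f : X ⟶ Y) [FT f] (K : DCoh.DEt X) (hK : Adm m K) : C.P s f K := by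
  have i0 : FT (f ≫ s) := ft_comp _ _
  have hXn : IsNoetherian X := noeth_of_ft (f ≫ s)
  refine ind_support' C hm s f (fun U hU L hL => ?_) (fun U hU L hL => ?_) K hK
  · have i1 : FT U.ι := ft_of_open _
    refine of_affine_target C (f ≫ s) U.ι L fun V hV => ?_
    have i2 : FT V.ι := ft_of_open _
    have i3 : FT (V.ι ≫ f ≫ s) := ft_comp _ _
    have i4 : FT (U.ι ∣_ V) := ft_of_isPullback (isPullback_morphismRestrict U.ι V).flip
    have i5 : IsAffine V.toScheme := hV
    have i6 : IsAffine U.toScheme := hU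
    have i7 : (U.ι ⁻¹ᵁ V).toScheme.IsSeparated := by
      refine ⟨?_⟩
      rw [← terminal.comp_from (U.ι ⁻¹ᵁ V).ι]
      infer_instance
    exact main_separated C hm (V.ι ≫ f ≫ s) (U.ι ∣_ V) _ (hL.pull _)
  · have i1 : FT U.ι := ft_of_open _
    have i2 : FT (U.ι ≫ f) := ft_comp _ _
    have i5 : IsAffine U.toScheme := hU
    exact main_affine C hm s (U.ι ≫ f) L hL

/-- **The abstract induction**: `P s f K` for all `f : X ⟶ Y` of finite type, `Y` locally of finite type over `ℂ`,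
and all admissible `K`. -/
theorem main (C : CompCalc m) (hm : 0 < m) (s : Y ⟶ An.SC) [LocallyOfFiniteType s]
    (f : X ⟶ Y) [FT f] (K : DCoh.DEt X) (hK : ∀ V : Y.Opens, IsAffineOpen V → Adm m ((pullD (f ⁻¹ᵁ V).ι).obj K)) :
    C.P s f K := by
  refine of_affine_target C s f K fun V hV => ?_
  have i4 : FT (f ∣_ V) := ft_of_isPullback (isPullback_morphismRestrict f V).flip
  have i5 : IsAffine V.toScheme := hV
  have i6 : QuasiCompact (V.ι ≫ s) := inferInstance
  have i7 : FT (V.ι ≫ s) := FT.of _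
  exact main_affine_target C hm (V.ι ≫ s) (f ∣_ V) _ (hK V hV)

/-- The abstract induction for `Y` of finite type over `ℂ`. -/
theorem main_ft (C : CompCalc m) (hm : 0 < m) (s : Y ⟶ An.SC) [FT s] (f : X ⟶ Y) [FT f] (K : DCoh.DEt X)
    (hK : Adm m K) : C.P s f K :=
  main C hm s f K fun _ _ => hK.pull _

end Groth.Agent.An.H495.CompCalc
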