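import Groth.Agent.An.H495.CompCalc
import Groth.Agent.Sga4h.GcFin764
import Groth.Agent.Sga4h.RC91

/-!
# The base step and the T-step for `CG`
-/

set_option autoImplicit false

open CategoryTheory CategoryTheory.Limits Opposite AlgebraicGeometry Pretriangulated
open DerivedCategory (homologyFunctor singleFunctor)

attribute [local instance] HasDerivedCategory.standard

namespace Groth.Agent.An.H495.CompCalc

open Groth.Agent.Etrest.DEtPush Groth.Agent.Sga4h.AdmCx Groth.Agent.Sga4h.IndCalc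
  Groth.Agent.Sga4h.GcGen Groth.Agent.Sga4h.MainInd

variable {m : ℕ} {C : CompCalc m} {X Y Z S W V T Q X' Y' Z' S' V' B D : Scheme.{0}}

/-- The spectrum of `ℂ` is an admissible base. -/
instance isNoetherian_SC : IsNoetherian An.SC := by
  infer_instance

theorem properAdm (hm : 0 < m) : ProperAdm.{0} m := fun _ _ p _ _ _ h => Sga4h.AdmProper.pushD_proper p hm h

theorem hAdm : Sga4h.FinGen.HAdm.{0} := by
  refine Groth.Agent.Sga4h.GcFin764.hAdm (fun ℓ hℓ Q C E Y _ p _ _ _ j _ i _ _ h hu => ?_)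
      (fun m hm P Y p _ _ L h => Groth.Agent.Sga4h.AdmProper.pushD_proper p hm h)
  have : Fact ℓ.Prime := ⟨hℓ⟩
  exact Groth.Agent.Sga4h.RC91.adm_compl p j i h ℓ hu

theorem isUnit_SC (hm : 0 < m) : IsUnit (m : Γ(An.SC, ⊤)) := by
  have h3 : IsUnit (m : ℂ) := (Nat.cast_ne_zero.2 hm.ne').isUnit
  have h4 := h3.map (Scheme.ΓSpecIso (CommRingCat.of ℂ)).inv.hom
  rwa [map_natCast] at h4

/-- `Rf_*` preserves admissible complexes over `ℂ`. -/
theorem adm_push (hm : 0 < m) (s : Y ⟶ An.SC) [FT s] (f : X ⟶ Y) [FT f] (K : DCoh.DEt X) (hK : Adm m K) :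
    Adm m ((pushD f).obj K) := by
  obtain ⟨U, hU, h⟩ := hAdm m (isUnit_SC hm) s f K hK
  have hU' : U = ⊤ := by
    rw [eq_top_iff]
    intro x _
    obtain ⟨y, hy⟩ := hU
    rwa [Subsingleton.elim x y]
  subst hU'
  have h1 : Adm m ((pullD (𝟙 Y)).obj ((pushD f).obj K)) := by
    refine adm_of_range (𝟙 Y) (s ⁻¹ᵁ ⊤).ι ?_ h
    intro x _
    exact ⟨⟨x, trivial⟩, rfl⟩
  obtain ⟨e⟩ := nonempty_pullId ((pushD f).obj K)
  exact h1.of_iso e

theorem cg_base [Bas m B] {b : Y ⟶ B} {f : X ⟶ Y} [FT b] [FT f] {K : DCoh.DEt X}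
    (h : CG C b f K) : ∃ D₀ : B.Opens, (D₀ : Set B).Nonempty ∧
      ∀ {X' Y' D : Scheme.{0}} (d : D ⟶ B) [IsOpenImmersion d] (b' : Y' ⟶ D) (jY : Y' ⟶ Y) (f' : X' ⟶ Y')
        (jX : X' ⟶ X), Set.range d ⊆ (D₀ : Set B) → IsPullback jY b' b d → IsPullback jX f' f jY →
          ∀ {S : Scheme.{0}} [Bas m S] (c : B ⟶ S) [FT c], CG C (b' ≫ d ≫ c) f' ((pullD jX).obj K) := by
  obtain ⟨U, hU, h⟩ := h
  refine ⟨U, hU, fun {X' Y' D} d _ b' jY f' jX hd hb hf S _ c _ => ?_⟩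
  have hS : IsIntegral S := Bas.int m
  have hBn : IsNoetherian B := Bas.noeth m
  refine ⟨⊤, Set.univ_nonempty, fun {X'' Y'' V} v _ b'' jY'' f'' jX'' _ hb'' hf'' s _ => ?_⟩
  have hd' : FT d := ft_of_open d
  have hdc : FT (d ≫ c) := ft_comp _ _
  have sqD : IsPullback (pullback.fst (d ≫ c) v) (pullback.snd (d ≫ c) v) (d ≫ c) v :=
    IsPullback.of_hasPullback _ _
  have : FT (pullback.snd (d ≫ c) v) := ft_of_isPullback sqD
  have : FT (pullback.snd (d ≫ c) v ≫ s) := ft_comp _ _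
  let k : Y'' ⟶ pullback (d ≫ c) v := pullback.lift (jY'' ≫ b') b'' (by
    rw [Category.assoc]; exact hb''.w)
  have hk1 : k ≫ pullback.fst (d ≫ c) v = jY'' ≫ b' := pullback.lift_fst _ _ _
  have hk2 : k ≫ pullback.snd (d ≫ c) v = b'' := pullback.lift_snd _ _ _
  have sq1 : IsPullback jY'' k b' (pullback.fst (d ≫ c) v) := by
    refine IsPullback.of_bot (v₂₁ := pullback.snd (d ≫ c) v) (v₂₂ := d ≫ c) (h₃₁ := v) ?_ hk1.symm sqD
    rw [hk2]; exact hb''
  have h1 := h (pullback.fst (d ≫ c) v ≫ d) k (jY'' ≫ jY) f'' (jX'' ≫ jX) (by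
      rintro _ ⟨x, rfl⟩
      exact hd ⟨_, rfl⟩) (sq1.paste_horiz hb) (hf''.paste_horiz hf) (pullback.snd (d ≫ c) v ≫ s)
  rw [← Category.assoc, hk2] at h1
  obtain ⟨e⟩ := nonempty_pullD_comp (rfl : jX'' ≫ jX = _) K
  exact C.of_iso e.symm h1

theorem cg_tstep (hm : 0 < m) [Bas m S] (p : Q ⟶ S) [IsProper p] (w : W ⟶ Q)
    [IsOpenImmersion w] (t : T ⟶ Q) [IsClosedImmersion t] (hwt : Set.range w = (Set.range t)ᶜ)
    (ht : IsFinite (t ≫ p)) (j : V ⟶ Q) [FT j] (j' : V' ⟶ W) (w' : V' ⟶ V) (hw : IsPullback w' j' j w)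
    (K : DCoh.DEt V) (hK : Adm m K) (h₁ : CG C (w ≫ p) j' ((pullD w').obj K))
    (h₂ : CG C (𝟙 S) (j ≫ p) K) : CG C p j K := by
  have hS : IsIntegral S := Bas.int m
  obtain ⟨U₁, hU₁, h₁⟩ := h₁
  obtain ⟨U₂, hU₂, h₂⟩ := h₂
  refine ⟨U₁ ⊓ U₂, exists_common₂ hU₁ hU₂, fun {V₁ Q₁ S₁} v _ p₁ jQ j₁ jV hv hp hj s _ => ?_⟩
  have i1 : IsProper p₁ := isProper_of_isPullback hp
  have i2 : FT j₁ := ft_of_isPullback hj
  have i3 : FT p₁ := FT.of _
  have i4 : FT (p₁ ≫ s) := ft_comp _ _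
  -- the squares of `w`, `t`
  have sqW : IsPullback (pullback.fst w jQ) (pullback.snd w jQ) w jQ := IsPullback.of_hasPullback _ _
  have sqT : IsPullback (pullback.fst t jQ) (pullback.snd t jQ) t jQ := IsPullback.of_hasPullback _ _
  have hr : ∀ {R : Scheme.{0}} (r : R ⟶ Q) (x : Q₁), x ∈ Set.range (pullback.snd r jQ) ↔ jQ x ∈ Set.range r := by
    intro R r x
    rw [Scheme.Pullback.range_snd]
    rfl
  have hfin : IsFinite (pullback.snd t jQ ≫ p₁) :=
    MorphismProperty.of_isPullback (P := @IsFinite) (sqT.paste_vert hp) ht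
  have sqV : IsPullback (pullback.fst j₁ (pullback.snd w jQ)) (pullback.snd j₁ (pullback.snd w jQ)) j₁
    (pullback.snd w jQ) := IsPullback.of_hasPullback _ _
  have hAK : Adm m ((pullD jV).obj K) := hK.pull jV
  have hAP : Adm m ((pushD j₁).obj ((pullD jV).obj K)) := adm_push hm (p₁ ≫ s) j₁ _ hAK
  refine C.tstep s p₁ (pullback.snd w jQ) (pullback.snd t jQ) ?_ hfin j₁
    (pullback.snd j₁ (pullback.snd w jQ)) (pullback.fst j₁ (pullback.snd w jQ)) sqV _ hAK hAP ?_ ?_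
    (C.proper s p₁ _ hAP)
  · ext x
    rw [Set.mem_compl_iff, hr, hr, hwt]
    rfl
  · -- over `W`
    let k : pullback j₁ (pullback.snd w jQ) ⟶ V' := hw.lift
      (pullback.fst j₁ (pullback.snd w jQ) ≫ jV)
      (pullback.snd j₁ (pullback.snd w jQ) ≫ pullback.fst w jQ) (by
        rw [Category.assoc, hj.w, ← Category.assoc, pullback.condition, Category.assoc, Category.assoc,
          pullback.condition])
    have hk1 : k ≫ w' = pullback.fst j₁ (pullback.snd w jQ) ≫ jV := hw.lift_fst _ _ _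
    have hk2 : k ≫ j' = pullback.snd j₁ (pullback.snd w jQ) ≫ pullback.fst w jQ := hw.lift_snd _ _ _
    have sq2 : IsPullback k (pullback.snd j₁ (pullback.snd w jQ)) j' (pullback.fst w jQ) := by
      refine IsPullback.of_right (h₁₂ := w') (h₂₂ := w) (v₁₃ := j) ?_ hk2 hw
      rw [hk1, pullback.condition]
      exact sqV.paste_horiz hj
    have h3 := h₁ v (pullback.snd w jQ ≫ p₁) (pullback.fst w jQ) (pullback.snd j₁ (pullback.snd w jQ)) k
      (hv.trans fun _ h => h.1) (sqW.paste_vert hp) sq2 s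
    rw [Category.assoc] at h3
    obtain ⟨e1⟩ := nonempty_pullD_comp hk1 K
    obtain ⟨e2⟩ := nonempty_pullD_comp (rfl : pullback.fst j₁ (pullback.snd w jQ) ≫ jV = _) K
    exact C.of_iso (e1 ≪≫ e2.symm) h3
  · have h3 := h₂ v (𝟙 S₁) v (j₁ ≫ p₁) jV (hv.trans fun _ h => h.2) (IsPullback.of_vert_isIso ⟨by simp⟩)
      (hj.paste_vert hp) s
    rwa [Category.id_comp] at h3

end Groth.Agent.An.H495.CompCalc
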