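import Groth.Prelude.Def_AnPts
import Groth.Agent.Sga4h.MainInd1
import Groth.Agent.Sga4h.GcGen
import Groth.Agent.Sga4h.GeoLocal
import Groth.Agent.Etrest.ConstBasic

/-!
# The curve field of `CompCalc` from the case of `D(X) ⊂ A^1_R`

* `exists_coord`: étale coordinates near an étale divisor in a smooth relative curve, over the base;
* `curve_of_gm`: a predicate `P s f K` which is local on the target, stable under étale base change of the target,
  true for isomorphisms and for `D(X) ⊂ Spec R[X]` holds for the complement of an étale divisor in a smooth relative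
  curve.
-/

set_option autoImplicit false
universe u

open CategoryTheory CategoryTheory.Limits Opposite AlgebraicGeometry Pretriangulated
open DerivedCategory (homologyFunctor singleFunctor)

attribute [local instance] HasDerivedCategory.standard

namespace Groth.Agent.An.H495.CurveGM

open Groth.Agent.Etrest Groth.Agent.Etrest.DEtPush Groth.Agent.Sga4h Groth.Agent.Sga4h.AdmCx
  Groth.Agent.Sga4h.IndCalc Groth.Agent.Sga4h.GcGen Groth.Agent.Sga4h.MainInd

/-- the étale coordinate, over the base: on an affine open `U` of `Q` over an affine open `V` of `Y` -/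
theorem exists_coord {Q Y E : Scheme.{u}} (p : Q ⟶ Y) [SmoothOfRelativeDimension 1 p]
    (i : E ⟶ Q) [IsClosedImmersion i] [Etale (i ≫ p)] (e : E) :
    ∃ (V : Y.Opens) (hV : IsAffineOpen V) (U : Q.Opens) (_ : IsAffineOpen U)
      (g : U.toScheme ⟶ Spec (CommRingCat.of (Polynomial Γ(Y, V)))), i e ∈ U ∧ Etale g ∧
      g ≫ Spec.map (CommRingCat.ofHom (Polynomial.C : Γ(Y, V) →+* Polynomial Γ(Y, V))) ≫ hV.fromSpec =
        U.ι ≫ p ∧
      ∀ x : U.toScheme, U.ι x ∈ Set.range i ↔ (Polynomial.X : Polynomial Γ(Y, V)) ∈ (g x).asIdeal := by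
  obtain ⟨V, hV, U, hU, hUV, t, he, het, hker⟩ := GeoLocal.exists_etale_coordinate p i e
  set φ : CommRingCat.of (Polynomial Γ(Y, V)) ⟶ Γ(Q, U) :=
    CommRingCat.ofHom (Polynomial.eval₂RingHom (p.appLE V U hUV).hom t) with hφ
  have h1 : Etale (Spec.map φ) := by
    rw [HasRingHomProperty.Spec_iff (P := @Etale)]
    exact het
  refine ⟨V, hV, U, hU, hU.isoSpec.hom ≫ Spec.map φ, he, inferInstance, ?_, fun x => ?_⟩
  · have h3 : CommRingCat.ofHom (Polynomial.C : Γ(Y, V) →+* Polynomial Γ(Y, V)) ≫ φ = p.appLE V U hUV := by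
      ext a
      simp [φ]
    rw [Category.assoc, ← Spec.map_comp_assoc, h3, IsAffineOpen.SpecMap_appLE_fromSpec p hV hU hUV,
      ← Category.assoc, hU.isoSpec_hom_fromSpec]
  have h2 : U.ι x ∈ Set.range i ↔ U.ι x ∈ i.ker.support := by
    constructor
    · rintro ⟨y, hy⟩
      rw [← hy]
      exact i.range_subset_ker_support ⟨y, rfl⟩
    · intro h
      have h3 := i.support_ker
      have h4 : U.ι x ∈ closure (Set.range i) := by
        have h5 : (i.ker.support : Set Q) = closure (Set.range i) := by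
          rw [h3]
        rw [← h5]
        exact h
      rwa [i.isClosedEmbedding.isClosed_range.closure_eq] at h4
  have hx : U.ι x ∈ (⟨U, hU⟩ : Q.affineOpens).1 := x.2
  rw [h2, Scheme.IdealSheafData.mem_support_iff_of_mem hx, Scheme.Hom.ker_apply]
  erw [hker]
  rw [Scheme.zeroLocus_span, Scheme.mem_zeroLocus_iff]
  have h6 : (Polynomial.X : Polynomial Γ(Y, V)) ∈ ((hU.isoSpec.hom ≫ Spec.map φ) x).asIdeal ↔
      t ∈ (hU.isoSpec.hom x).asIdeal := by
    have : φ.hom (Polynomial.X : Polynomial Γ(Y, V)) = t := by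
      rw [hφ]
      simp
    rw [← this]
    rfl
  have h7 : U.ι x ∈ Q.basicOpen t ↔ t ∉ (hU.isoSpec.hom x).asIdeal := by
    have h8 : hU.isoSpec.hom x ∈ hU.fromSpec ⁻¹ᵁ Q.basicOpen t ↔
        hU.isoSpec.hom x ∈ PrimeSpectrum.basicOpen t := by
      rw [hU.fromSpec_preimage_basicOpen]
      rfl
    have h9 : hU.fromSpec (hU.isoSpec.hom x) = U.ι x := by
      rw [← Scheme.Hom.comp_apply, hU.isoSpec_hom_fromSpec]
    rw [← h9]
    exact h8
  rw [h6]
  constructor
  · intro h
    by_contra h10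
    exact h t rfl (h7.2 h10)
  · rintro h _ rfl h10
    exact h7.1 h10 h

/-- Inverse images of constant sheaves in the derived category. -/
theorem nonempty_pullDConst {X Y : Scheme.{u}} (f : X ⟶ Y) (M : Type) [AddCommGroup M] :
    Nonempty ((pullD f).obj ((singleFunctor _ 0).obj (EtCoh.const Y M)) ≅
      (singleFunctor _ 0).obj (EtCoh.const X M)) :=
  ⟨((EtCoh.pull f).mapDerivedCategorySingleFunctor 0).app _ ≪≫
    (singleFunctor _ 0).mapIso ((ConstBasic.constPull f).app _)⟩

theorem adm_const {m ℓ : ℕ} [NeZero ℓ] (hd : ℓ ∣ m) (X : Scheme.{u}) :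
    Adm m ((singleFunctor _ 0).obj (EtCoh.const X (ZMod ℓ))) := by
  refine Adm.single ⟨ConstBasic.isConstructible_const X _, 1, ?_⟩ 0
  rw [pow_one]
  obtain ⟨c, rfl⟩ := hd
  exact ConstBasic.killedBy_const X (ZMod ℓ) (ℓ * c) (fun m => by simp)

/-- the open `D(X)` of `Spec R[X]` -/
noncomputable def gm (R : CommRingCat.{u}) : (Spec (CommRingCat.of (Polynomial R))).Opens :=
  PrimeSpectrum.basicOpen (Polynomial.X : Polynomial R)

/-- The curve field of the calculus. -/
theorem curve_of_gm {m : ℕ} (P : ∀ {X Y : Scheme.{0}}, (Y ⟶ An.SC) → (X ⟶ Y) → DCoh.DEt X → Prop)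
    (of_iso : ∀ {X Y : Scheme.{0}} {s : Y ⟶ An.SC} {f : X ⟶ Y} {K L : DCoh.DEt X},
      (K ≅ L) → P s f K → P s f L)
    (proper : ∀ {Y Z : Scheme.{0}} (s : Z ⟶ An.SC) (g : Y ⟶ Z) [FT s] [IsProper g] (K : DCoh.DEt Y),
      Adm m K → P s g K)
    (pull_etale : ∀ {X Y X' Y' : Scheme.{0}} {s : Y ⟶ An.SC} {f : X ⟶ Y} [FT s] [FT f]
      (g : Y' ⟶ Y) [Etale g] [QuasiCompact g] (f' : X' ⟶ Y') (g' : X' ⟶ X), IsPullback g' f' f g →
      ∀ {K : DCoh.DEt X} (_ : Adm m K), P s f K → P (g ≫ s) f' ((pullD g').obj K))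
    (target : ∀ {X Y : Scheme.{0}} (s : Y ⟶ An.SC) (f : X ⟶ Y) [LocallyOfFiniteType s] [FT f] {ι : Type}
      (Y' X' : ι → Scheme.{0}) (j : ∀ i, Y' i ⟶ Y) [∀ i, IsOpenImmersion (j i)] (f' : ∀ i, X' i ⟶ Y' i)
      (j' : ∀ i, X' i ⟶ X), (∀ i, IsPullback (j' i) (f' i) f (j i)) → (∀ y : Y, ∃ i, y ∈ Set.range (j i)) →
      ∀ (K : DCoh.DEt X), (∀ i, P (j i ≫ s) (f' i) ((pullD (j' i)).obj K)) → P s f K)
    (hgm : ∀ (R : CommRingCat.{0}) (s : Spec R ⟶ An.SC) [FT s] [Smooth s] (ℓ : ℕ), ℓ.Prime → ℓ ∣ m →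
      P (Spec.map (CommRingCat.ofHom (Polynomial.C : R →+* Polynomial R)) ≫ s) (gm R).ι
        ((singleFunctor _ 0).obj (EtCoh.const _ (ZMod ℓ))))
    {C Q E B : Scheme.{0}} (s : B ⟶ An.SC) [FT s] [Smooth s] (q : Q ⟶ B)
    [SmoothOfRelativeDimension 1 q] [QuasiCompact q] [QuasiSeparated q] (j : C ⟶ Q) [IsOpenImmersion j]
    (i : E ⟶ Q) [IsClosedImmersion i] [Etale (i ≫ q)] (hij : Set.range i = (Set.range j)ᶜ)
    (ℓ : ℕ) (hℓ : ℓ.Prime) (hd : ℓ ∣ m) :
    P (q ≫ s) j ((singleFunctor _ 0).obj (EtCoh.const C (ZMod ℓ))) := by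
  have : NeZero ℓ := ⟨hℓ.ne_zero⟩
  have i0 : Smooth q := SmoothOfRelativeDimension.smooth 1 q
  have i1 : FT q := FT.of q
  have i2 : FT (q ≫ s) := ft_comp _ _
  have hBN : IsNoetherian B := noeth_of_ft s
  have hQN : IsNoetherian Q := noeth_of_ft q
  have i3 : FT j := ft_of_open j
  choose V hV U hU g heU hg hgc hgU using exists_coord q i
  refine target (q ≫ s) j (ι := Option E)
    (fun o => (match o with
      | none => j.opensRange
      | some e => U e : Q.Opens).toScheme)
    (fun o => (j ⁻¹ᵁ (match o with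
      | none => j.opensRange
      | some e => U e : Q.Opens)).toScheme)
    (fun o => (match o with
      | none => j.opensRange
      | some e => U e : Q.Opens).ι)
    (fun o => j ∣_ (match o with
      | none => j.opensRange
      | some e => U e : Q.Opens))
    (fun o => (j ⁻¹ᵁ (match o with
      | none => j.opensRange
      | some e => U e : Q.Opens)).ι)
    (fun o => (isPullback_morphismRestrict j _).flip) (fun y => ?_) _ fun o => ?_
  · by_cases hy : y ∈ Set.range j
    · exact ⟨none, ⟨y, hy⟩, rfl⟩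
    · have hy' : y ∈ Set.range i := by rw [hij]; exact hy
      obtain ⟨e, rfl⟩ := hy'
      exact ⟨some e, ⟨i e, heU e⟩, rfl⟩
  · match o with
    | none =>
      have h1 : IsIso (j ∣_ j.opensRange) := by
        have h2 : Surjective (j ∣_ j.opensRange) := ⟨fun y => by
          obtain ⟨x, hx⟩ := y.2
          refine ⟨⟨x, ?_⟩, ?_⟩
          · change j x ∈ j.opensRange
            exact ⟨x, rfl⟩
          · apply (j.opensRange).ι.isOpenEmbedding.injective
            rw [← Scheme.Hom.comp_apply, morphismRestrict_ι]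
            exact hx⟩
        exact (isIso_iff_isOpenImmersion_and_surjective _).2 ⟨inferInstance, h2⟩
      have h3 : FT (j.opensRange.ι) := ft_of_open _
      have h4 : FT (j.opensRange.ι ≫ q ≫ s) := ft_comp _ _
      exact proper _ _ _ ((adm_const hd _).pull _)
    | some e =>
      obtain ⟨e1⟩ := nonempty_pullDConst (j ⁻¹ᵁ (U e)).ι (ZMod ℓ)
      refine of_iso e1.symm ?_
      have ig := hg e
      have hfs : FT (hV e).fromSpec := ft_of_open _
      have i4 : FT ((hV e).fromSpec ≫ s) := ft_comp _ _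
      have i5 : Smooth ((hV e).fromSpec ≫ s) := inferInstance
      have h5 := hgm Γ(B, V e) ((hV e).fromSpec ≫ s) ℓ hℓ hd
      have hVN : IsNoetherianRing Γ(B, V e) := IsLocallyNoetherian.component_noetherian ⟨V e, hV e⟩
      have i6 : LocallyOfFiniteType (Spec.map (CommRingCat.ofHom (Polynomial.C : Γ(B, V e) →+* Polynomial Γ(B, V e)))) := by
        rw [HasRingHomProperty.Spec_iff (P := @LocallyOfFiniteType)]
        exact (RingHom.finiteType_algebraMap (A := Γ(B, V e)) (B := Polynomial Γ(B, V e))).2 inferInstance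
      have i7 : FT (Spec.map (CommRingCat.ofHom (Polynomial.C : Γ(B, V e) →+* Polynomial Γ(B, V e)))) := FT.of _
      have i8 : FT (Spec.map (CommRingCat.ofHom (Polynomial.C : Γ(B, V e) →+* Polynomial Γ(B, V e))) ≫
        (hV e).fromSpec ≫ s) := ft_comp _ _
      have i9 : FT (gm Γ(B, V e)).ι := by
        have := noeth_of_ft (Spec.map (CommRingCat.ofHom (Polynomial.C : Γ(B, V e) →+* Polynomial Γ(B, V e))) ≫
          (hV e).fromSpec ≫ s)
        exact ft_of_open _
      -- the cartesian square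
      have hr : ∀ x : (U e).toScheme, x ∈ Set.range (j ∣_ U e) ↔ (g e) x ∈ Set.range (gm Γ(B, V e)).ι := by
        intro x
        have h6 : x ∈ Set.range (j ∣_ U e) ↔ (U e).ι x ∈ Set.range j := by
          constructor
          · rintro ⟨y, rfl⟩
            refine ⟨(j ⁻¹ᵁ (U e)).ι y, ?_⟩
            rw [← Scheme.Hom.comp_apply, ← Scheme.Hom.comp_apply, morphismRestrict_ι]
          · rintro ⟨y, hy⟩
            refine ⟨⟨y, ?_⟩, ?_⟩
            · change j y ∈ U e
              rw [hy]
              exact x.2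
            · apply (U e).ι.isOpenEmbedding.injective
              rw [← Scheme.Hom.comp_apply, morphismRestrict_ι]
              exact hy
        have h7 : (U e).ι x ∈ Set.range j ↔ ¬ (U e).ι x ∈ Set.range i := by
          rw [hij, Set.mem_compl_iff, not_not]
        rw [h6, h7, hgU, Scheme.Opens.range_ι]
        rfl
      have h1 : Set.range ((j ∣_ U e) ≫ g e) ⊆ Set.range (gm Γ(B, V e)).ι := by
        rintro _ ⟨x, rfl⟩
        rw [Scheme.Hom.comp_apply]
        exact (hr _).1 ⟨x, rfl⟩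
      let k : (j ⁻¹ᵁ (U e)).toScheme ⟶ (gm Γ(B, V e)).toScheme :=
        IsOpenImmersion.lift (gm Γ(B, V e)).ι ((j ∣_ U e) ≫ g e) h1
      have hk : k ≫ (gm Γ(B, V e)).ι = (j ∣_ U e) ≫ g e := IsOpenImmersion.lift_fac _ _ _
      have hp : IsPullback k (j ∣_ U e) (gm Γ(B, V e)).ι (g e) := IsOpenImmersion.isPullback _ _ _ _ hk.symm (by
        ext x
        exact (hr x).symm)
      have hqc : QuasiCompact (g e) := by
        have : IsAffine (U e).toScheme := hU e
        infer_instance
      have h8 := pull_etale (g e) (j ∣_ U e) k hp (adm_const hd _) h5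
      obtain ⟨e2⟩ := nonempty_pullDConst k (ZMod ℓ)
      have h9 := of_iso e2 h8
      rw [← Category.assoc (Spec.map _), ← Category.assoc (g e), hgc e, Category.assoc] at h9
      exact h9

end Groth.Agent.An.H495.CurveGM
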